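import Cfsg.Agent.H662.HT.Two

/-!
# The case `|F| = 4 |A|` of a half-transitive group: action on `F / A` (HT-E P4g, helper192)
-/

set_option autoImplicit false
set_option linter.unusedSectionVars false

open scoped Classical

namespace Cfsg.Agent.H192.Ht

open Cfsg.Agent.H828.HT Cfsg.Agent.H662.HT

universe u

variable {p : ℕ} [Fact p.Prime] {V : Type u} [AddCommGroup V] [Module (ZMod p) V] [Finite V]
variable {G A F : Subgroup (V ≃ₗ[ZMod p] V)}

theorem nrmF (E : ETwo G A F) : (A.subgroupOf F).Normal := by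
  refine ⟨fun n hn g => ?_⟩
  rw [Subgroup.mem_subgroupOf] at hn ⊢
  have h1 := E.cenA n hn g g.2
  have h2 : ((g * n * g⁻¹ : F) : V ≃ₗ[ZMod p] V) = n := by
    rw [Subgroup.coe_mul, Subgroup.coe_mul, ← h1, Subgroup.coe_inv, mul_inv_cancel_right]
  rw [h2]
  exact hn

/-- conjugation by an element of `G` on `F` -/
def cjF (E : ETwo G A F) (g : G) : F →* F where
  toFun x := ⟨g * x * (g : V ≃ₗ[ZMod p] V)⁻¹, E.nF g g.2 x x.2⟩
  map_one' := Subtype.ext (by simp)
  map_mul' x y := Subtype.ext (by simp)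

theorem cjF_coe (E : ETwo G A F) (g : G) (x : F) :
    ((cjF E g x : F) : V ≃ₗ[ZMod p] V) = g * x * (g : V ≃ₗ[ZMod p] V)⁻¹ := rfl

theorem cjF_le (E : ETwo G A F) (g : G) : A.subgroupOf F ≤ (A.subgroupOf F).comap (cjF E g) := by
  intro x hx
  rw [Subgroup.mem_comap, Subgroup.mem_subgroupOf, cjF_coe]
  exact E.nA g g.2 x (Subgroup.mem_subgroupOf.1 hx)

/-- the action of `G` on `F / A` -/
@[reducible] def actF (E : ETwo G A F) [(A.subgroupOf F).Normal] : MulAction G (F ⧸ A.subgroupOf F) where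
  smul g := QuotientGroup.map _ _ (cjF E g) (cjF_le E g)
  one_smul q := by
    obtain ⟨x, rfl⟩ := QuotientGroup.mk_surjective q
    change (QuotientGroup.mk (cjF E 1 x) : F ⧸ A.subgroupOf F) = QuotientGroup.mk x
    have h : cjF E 1 x = x := Subtype.ext (by rw [cjF_coe]; simp)
    rw [h]
  mul_smul g k q := by
    obtain ⟨x, rfl⟩ := QuotientGroup.mk_surjective q
    change (QuotientGroup.mk (cjF E (g * k) x) : F ⧸ A.subgroupOf F) = QuotientGroup.mk (cjF E g (cjF E k x))
    have h : cjF E (g * k) x = cjF E g (cjF E k x) :=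
      Subtype.ext (by rw [cjF_coe, cjF_coe, cjF_coe]; simp [mul_assoc])
    rw [h]

theorem card_quot (E : ETwo G A F) : Nat.card (F ⧸ A.subgroupOf F) = 4 := by
  have hfin : Finite (V ≃ₗ[ZMod p] V) := finG
  have h1 := Subgroup.card_eq_card_quotient_mul_card_subgroup (A.subgroupOf F)
  rw [E.card, Nat.card_congr (Subgroup.subgroupOfEquivOfLe E.AF).toEquiv] at h1
  exact (Nat.eq_of_mul_eq_mul_right Nat.card_pos h1).symm

/-- **P4g** -/
theorem e_two_three (E : ETwo G A F) : 3 ∣ Nat.card G := by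
  have hfin : Finite (V ≃ₗ[ZMod p] V) := finG
  have hN := nrmF E
  let _ := actF E
  have hsm : ∀ (g : G) (x : F), g • (QuotientGroup.mk x : F ⧸ A.subgroupOf F) = QuotientGroup.mk (cjF E g x) :=
    fun g x => rfl
  have hmul : ∀ (g : G) (a b : F ⧸ A.subgroupOf F), g • (a * b) = (g • a) * (g • b) := by
    intro g a b
    exact map_mul (QuotientGroup.map _ _ (cjF E g) (cjF_le E g)) a b
  have hcomm : ∀ a b : F ⧸ A.subgroupOf F, a * b = b * a := by
    intro a b
    obtain ⟨x, rfl⟩ := QuotientGroup.mk_surjective a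
    obtain ⟨y, rfl⟩ := QuotientGroup.mk_surjective b
    rw [← QuotientGroup.mk_mul, ← QuotientGroup.mk_mul, eq_comm, QuotientGroup.eq, Subgroup.mem_subgroupOf]
    have h1 := E.comm x⁻¹ (F.inv_mem x.2) y⁻¹ (F.inv_mem y.2)
    simpa [mul_assoc] using h1
  have hsq : ∀ a : F ⧸ A.subgroupOf F, a * a = 1 := by
    intro a
    obtain ⟨x, rfl⟩ := QuotientGroup.mk_surjective a
    rw [← QuotientGroup.mk_mul, QuotientGroup.eq_one_iff, Subgroup.mem_subgroupOf]
    exact E.sq x x.2
  have hfix : ∀ a : F ⧸ A.subgroupOf F, (∀ g : G, g • a = a) → a = 1 := by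
    intro a ha
    obtain ⟨x, rfl⟩ := QuotientGroup.mk_surjective a
    rw [QuotientGroup.eq_one_iff, Subgroup.mem_subgroupOf]
    refine E.fpf x x.2 fun g hg => ?_
    have h1 := ha ⟨g, hg⟩
    rw [hsm, eq_comm, QuotientGroup.eq, Subgroup.mem_subgroupOf] at h1
    have h2 := E.nA (x : V ≃ₗ[ZMod p] V) (E.FG x.2) _ h1
    simpa [cjF_coe, mul_assoc] using h2
  have hone : ∀ g : G, g • (1 : F ⧸ A.subgroupOf F) = 1 := fun g => map_one (QuotientGroup.map _ _ (cjF E g) (cjF_le E g))
  have hQ := card_quot E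
  have hnt : Nontrivial (F ⧸ A.subgroupOf F) := by
    rw [← Finite.one_lt_card_iff_nontrivial, hQ]; norm_num
  obtain ⟨a, ha⟩ := exists_ne (1 : F ⧸ A.subgroupOf F)
  have hdvd : Nat.card (MulAction.orbit G a) ∣ Nat.card G := by
    have := Fintype.ofFinite G
    have h1 := MulAction.card_orbit_mul_card_stabilizer_eq_card_group G a
    rw [← Nat.card_eq_fintype_card, ← Nat.card_eq_fintype_card, ← Nat.card_eq_fintype_card] at h1
    exact Dvd.intro _ h1
  have h1 : (1 : F ⧸ A.subgroupOf F) ∉ MulAction.orbit G a := by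
    rintro ⟨g, hg⟩
    have : a = g⁻¹ • (1 : F ⧸ A.subgroupOf F) := by rw [← hg]; exact (inv_smul_smul g a).symm
    rw [hone] at this
    exact ha this
  have hle : (MulAction.orbit G a).ncard ≤ 3 := by
    have h2 : (insert (1 : F ⧸ A.subgroupOf F) (MulAction.orbit G a)).ncard ≤ 4 := by
      rw [← hQ, ← Set.ncard_univ]
      exact Set.ncard_le_ncard (Set.subset_univ _)
    rw [Set.ncard_insert_of_notMem h1] at h2
    omega
  have hpos : 0 < (MulAction.orbit G a).ncard := (Set.ncard_pos).2 ⟨a, MulAction.mem_orbit_self a⟩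
  rw [← Nat.card_coe_set_eq] at hle hpos
  have hcase : Nat.card (MulAction.orbit G a) = 1 ∨ Nat.card (MulAction.orbit G a) = 2 ∨
    Nat.card (MulAction.orbit G a) = 3 := by omega
  rcases hcase with h | h | h
  · exfalso
    apply ha
    refine hfix a fun g => ?_
    rw [Nat.card_coe_set_eq, Set.ncard_eq_one] at h
    obtain ⟨b, hb⟩ := h
    have e1 : a ∈ MulAction.orbit G a := MulAction.mem_orbit_self a
    have e2 : g • a ∈ MulAction.orbit G a := MulAction.mem_orbit a g
    rw [hb, Set.mem_singleton_iff] at e1 e2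
    rw [e2, ← e1]
  · exfalso
    rw [Nat.card_coe_set_eq, Set.ncard_eq_two] at h
    obtain ⟨b, c, hbc, hb⟩ := h
    have key : ∀ g : G, (g • b = b ∧ g • c = c) ∨ (g • b = c ∧ g • c = b) := by
      intro g
      have mb : b ∈ MulAction.orbit G a := by rw [hb]; exact Or.inl rfl
      have mc : c ∈ MulAction.orbit G a := by rw [hb]; exact Or.inr rfl
      have e1 : g • b ∈ MulAction.orbit G a := by
        obtain ⟨k, hk⟩ := mb
        exact ⟨g * k, by rw [← hk]; exact mul_smul g k a⟩
      have e2 : g • c ∈ MulAction.orbit G a := by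
        obtain ⟨k, hk⟩ := mc
        exact ⟨g * k, by rw [← hk]; exact mul_smul g k a⟩
      have e3 : g • b ≠ g • c := fun h => hbc (MulAction.injective g h)
      rw [hb] at e1 e2
      rcases e1 with e1 | e1 <;> rcases e2 with e2 | e2
      · exact absurd (e1.trans e2.symm) e3
      · exact Or.inl ⟨e1, e2⟩
      · exact Or.inr ⟨e1, e2⟩
      · exact absurd (e1.trans (show g • c = c from e2).symm) e3
    have h2 : b * c = 1 := by
      refine hfix _ fun g => ?_
      rw [hmul]
      rcases key g with ⟨e1, e2⟩ | ⟨e1, e2⟩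
      · rw [e1, e2]
      · rw [e1, e2, hcomm]
    apply hbc
    rw [← mul_right_inj b, hsq, h2]
  · rw [← h]
    exact hdvd

end Cfsg.Agent.H192.Ht
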