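import Cfsg.Agent.H960.HT.Imp

/-!
# Half-transitive imprimitive linear groups of odd order are semiregular (helper192)
-/

set_option autoImplicit false
set_option linter.unusedSectionVars false

open scoped Classical

namespace Cfsg.Agent.H192.Ht

open Cfsg.Agent.H828.HT
open Cfsg.Agent.H960.HT (Irr Sys)

universe u

variable {p : ℕ} [Fact p.Prime] {V : Type u} [AddCommGroup V] [Module (ZMod p) V] [Finite V]
variable {G : Subgroup (V ≃ₗ[ZMod p] V)} {B : Set (Submodule (ZMod p) V)} {h : ℕ}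

theorem zero_of_mem (H : Sys G B) {X : Submodule (ZMod p) V} (hX : X ∈ B) {v : V} (hv : v ∈ X)
    (hv' : v ∈ sSup (B \ {X})) : v = 0 :=
  (Submodule.disjoint_def.1 (H.ind hX)) v hv hv'

theorem mem_other {X Y : Submodule (ZMod p) V} (hY : Y ∈ B) (hne : Y ≠ X) {v : V} (hv : v ∈ Y) :
    v ∈ sSup (B \ {X}) :=
  (le_sSup (show Y ∈ B \ {X} from ⟨hY, hne⟩) : Y ≤ sSup (B \ {X})) hv

theorem fix_or_swap (H : Sys G B) {X Y : Submodule (ZMod p) V} (hX : X ∈ B) (hY : Y ∈ B) (hne : X ≠ Y) {s t : V}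
    (hs : s ∈ X) (ht : t ∈ Y) (hs0 : s ≠ 0) (ht0 : t ≠ 0) {g : V ≃ₗ[ZMod p] V} (hg : g ∈ G)
    (hgst : g (s + t) = s + t) : (g s = s ∧ g t = t) ∨ (g s = t ∧ g t = s) := by
  have hinj : Function.Injective (Submodule.map (g : V →ₗ[ZMod p] V)) := Submodule.map_injective_of_injective g.injective
  have gs0 : g s ≠ 0 := fun h => hs0 ((LinearEquiv.map_eq_zero_iff g).1 h)
  have gt0 : g t ≠ 0 := fun h => ht0 ((LinearEquiv.map_eq_zero_iff g).1 h)
  have e : g s + g t = s + t := by rw [← map_add, hgst]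
  have m1 : g s ∈ X.map (g : V →ₗ[ZMod p] V) := ⟨s, hs, rfl⟩
  have m2 : g t ∈ Y.map (g : V →ₗ[ZMod p] V) := ⟨t, ht, rfl⟩
  have hne' : X.map (g : V →ₗ[ZMod p] V) ≠ Y.map (g : V →ₗ[ZMod p] V) := fun h => hne (hinj h)
  have b1 := H.perm g hg X hX
  have b2 := H.perm g hg Y hY
  generalize X.map (g : V →ₗ[ZMod p] V) = X' at m1 hne' b1
  generalize Y.map (g : V →ₗ[ZMod p] V) = Y' at m2 hne' b2
  have c1 : X' = X ∨ X' = Y := by
    by_contra hcon
    push Not at hcon
    refine gs0 (zero_of_mem H b1 m1 ?_)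
    have : g s = s + t - g t := by rw [← e]; abel
    rw [this]
    exact Submodule.sub_mem _ (Submodule.add_mem _ (mem_other hX hcon.1.symm hs) (mem_other hY hcon.2.symm ht))
      (mem_other b2 hne'.symm m2)
  have c2 : Y' = X ∨ Y' = Y := by
    by_contra hcon
    push Not at hcon
    refine gt0 (zero_of_mem H b2 m2 ?_)
    have : g t = s + t - g s := by rw [← e]; abel
    rw [this]
    exact Submodule.sub_mem _ (Submodule.add_mem _ (mem_other hX hcon.1.symm hs) (mem_other hY hcon.2.symm ht))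
      (mem_other b1 hne' m1)
  rcases c1 with rfl | rfl <;> rcases c2 with rfl | rfl
  · exact absurd rfl hne'
  · left
    have h1 : g s - s = 0 := zero_of_mem H hX (Submodule.sub_mem _ m1 hs) (by
      have : g s - s = t - g t := by rw [sub_eq_sub_iff_add_eq_add, e, add_comm]
      rw [this]
      exact Submodule.sub_mem _ (mem_other hY hne.symm ht) (mem_other hY hne.symm m2))
    have h2 := sub_eq_zero.1 h1
    rw [h2] at e
    exact ⟨h2, add_left_cancel e⟩
  · right
    have h1 : g s - t = 0 := zero_of_mem H hY (Submodule.sub_mem _ m1 ht) (by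
      have : g s - t = s - g t := by rw [sub_eq_sub_iff_add_eq_add, e]
      rw [this]
      exact Submodule.sub_mem _ (mem_other hX hne hs) (mem_other hX hne m2))
    have h2 := sub_eq_zero.1 h1
    rw [h2, add_comm s t] at e
    exact ⟨h2, add_left_cancel e⟩
  · exact absurd rfl hne'

theorem stab_eq (H : Sys G B) (hodd : Odd (Nat.card G)) (hh : Half G h) {X Y : Submodule (ZMod p) V} (hX : X ∈ B)
    (hY : Y ∈ B) (hne : X ≠ Y) {s t : V} (hs : s ∈ X) (ht : t ∈ Y) (hs0 : s ≠ 0) (ht0 : t ≠ 0) :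
    MulAction.stabilizer G s = MulAction.stabilizer G t := by
  have hd : ∀ v : V, v ∈ X → v ∈ Y → v = 0 := fun v h1 h2 => zero_of_mem H hX h1 (mem_other hY hne.symm h2)
  have hst : s + t ≠ 0 := by
    intro h0
    apply hs0
    refine hd s hs ?_
    rw [eq_neg_of_add_eq_zero_left h0]
    exact Y.neg_mem ht
  have hle : ∀ g ∈ MulAction.stabilizer G (s + t), g ∈ MulAction.stabilizer G s ∧ g ∈ MulAction.stabilizer G t := by
    intro g hg
    rcases fix_or_swap H hX hY hne hs ht hs0 ht0 g.2 hg with ⟨h1, h2⟩ | ⟨h1, h2⟩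
    · exact ⟨h1, h2⟩
    · exfalso
      have hsq : (g ^ 2) • s = s := by
        rw [pow_two, mul_smul]
        change (g : V ≃ₗ[ZMod p] V) ((g : V ≃ₗ[ZMod p] V) s) = s
        rw [h1, h2]
      have hcop : (2 : ℕ).Coprime (orderOf g) := by
        have := Nat.Coprime.coprime_dvd_right (orderOf_dvd_natCard g) (Nat.coprime_two_left.2 hodd)
        exact this
      obtain ⟨k, hk⟩ := exists_pow_eq_self_of_coprime hcop
      have h3 : g • s = s := by
        rw [← hk]
        exact (MulAction.stabilizer G s).pow_mem (show g ^ 2 ∈ MulAction.stabilizer G s from hsq) k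
      have h4 : (g : V ≃ₗ[ZMod p] V) s = s := h3
      rw [h1] at h4
      exact ht0 (hd t (h4 ▸ hs) ht)
  have e1 : MulAction.stabilizer G (s + t) = MulAction.stabilizer G s :=
    Subgroup.eq_of_le_of_card_ge (fun g hg => (hle g hg).1) (by rw [hh _ hst, hh _ hs0])
  have e2 : MulAction.stabilizer G (s + t) = MulAction.stabilizer G t :=
    Subgroup.eq_of_le_of_card_ge (fun g hg => (hle g hg).2) (by rw [hh _ hst, hh _ ht0])
  rw [← e1, e2]

/-- **imprimitive groups of odd order** -/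
theorem imp_odd (H : Sys G B) (hodd : Odd (Nat.card G)) (hh : Half G h) (h2 : 2 ≤ h) (hirr : Irr G) : False := by
  obtain ⟨X, hX, Y, hY, hne⟩ := H.nt
  obtain ⟨s, hs, hs0⟩ := (Submodule.ne_bot_iff X).1 (H.ne X hX)
  obtain ⟨t, ht, ht0⟩ := (Submodule.ne_bot_iff Y).1 (H.ne Y hY)
  have hst := stab_eq H hodd hh hX hY hne hs ht hs0 ht0
  have key : ∀ g ∈ MulAction.stabilizer G s, g = 1 := by
    intro g hg
    have hblk : ∀ Z ∈ B, ∀ v ∈ Z, (g : V ≃ₗ[ZMod p] V) v = v := by
      intro Z hZ v hv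
      by_cases hv0 : v = 0
      · rw [hv0, map_zero]
      by_cases hZX : X = Z
      · subst hZX
        have h1 := stab_eq H hodd hh hX hY hne hv ht hv0 ht0
        have : g ∈ MulAction.stabilizer G v := by rw [h1, ← hst]; exact hg
        exact this
      · have h1 := stab_eq H hodd hh hX hZ hZX hs hv hs0 hv0
        have : g ∈ MulAction.stabilizer G v := by rw [← h1]; exact hg
        exact this
    have htop : sSup B = ⊤ := H.iSup_top hirr (le_refl _) H.nt.nonempty H.perm
    have hle : sSup B ≤ fx (g : V ≃ₗ[ZMod p] V) := sSup_le fun Z hZ v hv => mem_fx.2 (hblk Z hZ v hv)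
    rw [htop] at hle
    apply Subtype.ext
    apply LinearEquiv.ext
    intro v
    exact mem_fx.1 (hle (Submodule.mem_top : v ∈ ⊤))
  have h1 : Nat.card (MulAction.stabilizer G s) = 1 := by
    rw [Nat.card_eq_one_iff_unique]
    exact ⟨⟨fun a b => Subtype.ext ((key a a.2).trans (key b b.2).symm)⟩, ⟨1⟩⟩
  rw [hh s hs0] at h1
  omega

end Cfsg.Agent.H192.Ht
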