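import Cfsg.Agent.H662.HT.Two
import Cfsg.Agent.H662.HT.Glue

/-!
# Subgroups of `G ≤ GL(V)` as subgroups of `GL(V)` (helper192)
-/

set_option autoImplicit false
set_option linter.unusedSectionVars false

namespace Cfsg.Agent.H192.Ht

open Cfsg.Agent.H828.HT Cfsg.Agent.H662.HT
open Cfsg.Agent.H960.HT (Irr Homog NIrr Sys)

universe u

variable {p : ℕ} [Fact p.Prime] {V : Type u} [AddCommGroup V] [Module (ZMod p) V] [Finite V]
variable {G : Subgroup (V ≃ₗ[ZMod p] V)}

/-- a subgroup of `G` as a subgroup of `GL(V)` -/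
def up (L : Subgroup G) : Subgroup (V ≃ₗ[ZMod p] V) := L.map G.subtype

theorem mem_up {L : Subgroup G} {x : V ≃ₗ[ZMod p] V} : x ∈ up L ↔ ∃ y ∈ L, (y : V ≃ₗ[ZMod p] V) = x :=
  Subgroup.mem_map

theorem coe_mem_up {L : Subgroup G} {x : G} : (x : V ≃ₗ[ZMod p] V) ∈ up L ↔ x ∈ L := by
  rw [mem_up]
  constructor
  · rintro ⟨y, hy, he⟩
    rwa [← Subtype.ext he]
  · intro h
    exact ⟨x, h, rfl⟩

theorem up_le (L : Subgroup G) : up L ≤ G := by
  intro x hx
  obtain ⟨y, -, rfl⟩ := mem_up.1 hx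
  exact y.2

theorem up_mono {L M : Subgroup G} (h : L ≤ M) : up L ≤ up M := Subgroup.map_mono h

theorem up_normal {L : Subgroup G} (hL : L.Normal) : ∀ g ∈ G, ∀ x ∈ up L, g * x * g⁻¹ ∈ up L := by
  intro g hg x hx
  obtain ⟨y, hy, rfl⟩ := mem_up.1 hx
  exact mem_up.2 ⟨⟨g, hg⟩ * y * (⟨g, hg⟩ : G)⁻¹, hL.conj_mem y hy ⟨g, hg⟩, rfl⟩

/-- the isomorphism -/
noncomputable def upE (L : Subgroup G) : L ≃* up L := L.equivMapOfInjective G.subtype G.subtype_injective

theorem upE_coe (L : Subgroup G) (x : L) : ((upE L x : up L) : V ≃ₗ[ZMod p] V) = ((x : G) : V ≃ₗ[ZMod p] V) := rfl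

theorem upE_smul (L : Subgroup G) (x : L) (v : V) : upE L x • v = x • v := rfl

theorem card_up (L : Subgroup G) : Nat.card (up L) = Nat.card L := (Nat.card_congr (upE L).toEquiv).symm

theorem comm_up {L M : Subgroup G} (h : ∀ x ∈ L, ∀ y ∈ M, x * y = y * x) : ∀ x ∈ up L, ∀ y ∈ up M, x * y = y * x := by
  intro x hx y hy
  obtain ⟨x', hx', rfl⟩ := mem_up.1 hx
  obtain ⟨y', hy', rfl⟩ := mem_up.1 hy
  exact congrArg Subtype.val (h x' hx' y' hy')

theorem card_center_up (L : Subgroup G) : Nat.card (Subgroup.center (up L)) = Nat.card (Subgroup.center L) := by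
  have h : (Subgroup.center L).map (upE L).toMonoidHom = Subgroup.center (up L) := by
    ext x
    simp only [Subgroup.mem_map, Subgroup.mem_center_iff]
    constructor
    · rintro ⟨y, hy, rfl⟩ z
      obtain ⟨w, rfl⟩ := (upE L).surjective z
      change upE L w * upE L y = upE L y * upE L w
      rw [← map_mul, ← map_mul, hy]
    · intro hx
      refine ⟨(upE L).symm x, fun z => ?_, (upE L).apply_symm_apply x⟩
      apply (upE L).injective
      rw [map_mul, map_mul, (upE L).apply_symm_apply, hx]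
  rw [← h]
  exact (Nat.card_congr ((Subgroup.center L).equivMapOfInjective _ (upE L).injective).toEquiv).symm

theorem cyclic_up {L : Subgroup G} (h : IsCyclic L) : IsCyclic (up L) :=
  isCyclic_of_surjective (upE L) (upE L).surjective

theorem sym_up {s a : ℕ} {L : Subgroup G} (H : Sym s a L V) : Sym s a (up L) V := H.congr (upE L) (upE_smul L)

theorem full_up {s : ℕ} {L : Subgroup G} (H : Full s L) : Full s (up L) := H.congr (upE L)

/-- homogeneous normal subgroups act faithfully on invariant subspaces -/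
theorem qpr [Nontrivial V] (hirr : Irr G)
    (hhom : ∀ N : Subgroup (V ≃ₗ[ZMod p] V), N ≤ G → (∀ g ∈ G, ∀ n ∈ N, g * n * g⁻¹ ∈ N) → Homog N) : QPr G := by
  intro L hL W hW hinv x hx hfix
  have hinv' : ∀ n ∈ up L, ∀ v ∈ W, n v ∈ W := by
    intro n hn v hv
    obtain ⟨y, hy, rfl⟩ := mem_up.1 hn
    exact hinv y hy v hv
  obtain ⟨M, hMW, hM⟩ := Cfsg.Agent.H960.HT.exists_nirr (up L) hW hinv'
  have h1 := Cfsg.Agent.H960.HT.Homog.faithful (hhom (up L) (up_le L) (up_normal hL)) hirr (up_normal hL) hM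
    (coe_mem_up.2 hx) (fun v hv => hfix v (hMW hv))
  exact Subtype.ext h1

end Cfsg.Agent.H192.Ht
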