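import Cfsg.Agent.H192.Ht.Leaves
import Cfsg.Agent.H192.Ht.ETwoA
import Cfsg.Agent.H192.Ht.Odd
import Cfsg.Agent.H192.Ht.Up

/-!
# Soluble half-transitive linear groups, coprime case (helper192)
-/

set_option autoImplicit false
set_option linter.unusedSectionVars false

open scoped commutatorElement

namespace Cfsg.Agent.H192.Ht

open Cfsg.Agent.H828.HT Cfsg.Agent.H662.HT
open Cfsg.Agent.H960.HT (Irr Homog NIrr Sys)

universe u

section grp

variable {Γ : Type*} [Group Γ]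

/-- if only `2` can be a prime order in `F / A` and the exponent of `F / A` is squarefree then it is `2` -/
theorem sq_mem {A F : Subgroup Γ} (hodd : ∀ s : ℕ, s.Prime → s ≠ 2 → ∀ x ∈ F, x ^ s ∈ A → x ∈ A) :
    ∀ n : ℕ, Squarefree n → ∀ x ∈ F, x ^ n ∈ A → x ^ 2 ∈ A := by
  intro n
  induction n using Nat.strong_induction_on with
  | _ n ih =>
  intro hn x hx hxn
  by_cases h1 : ∃ s : ℕ, s.Prime ∧ s ≠ 2 ∧ s ∣ n
  · obtain ⟨s, hs, hs2, k, rfl⟩ := h1
    have hk : Squarefree k := hn.squarefree_of_dvd (Dvd.intro_left s rfl)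
    have hk0 : k ≠ 0 := hk.ne_zero
    refine ih k (by nlinarith [hs.two_le, Nat.pos_of_ne_zero hk0]) hk x hx ?_
    refine hodd s hs hs2 (x ^ k) (F.pow_mem hx k) ?_
    rwa [← pow_mul, mul_comm]
  · push Not at h1
    have hn0 : n ≠ 0 := hn.ne_zero
    have h2 : n ∣ 2 := by
      have h3 : n.primeFactors ⊆ {2} := by
        intro s hs
        have hs' := Nat.prime_of_mem_primeFactors hs
        by_contra hne
        exact h1 s hs' (by simpa using hne) (Nat.dvd_of_mem_primeFactors hs)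
      rw [← Nat.prod_primeFactors_of_squarefree hn]
      calc ∏ q ∈ n.primeFactors, q ∣ ∏ q ∈ {2}, q := Finset.prod_dvd_prod_of_subset _ _ _ h3
        _ = 2 := by simp
    obtain ⟨k, hk⟩ := h2
    rw [hk, pow_mul]
    exact A.pow_mem hxn k

/-- an element commuting with `G` modulo the maximal abelian normal subgroup `A` and centralising `A` is in `A` -/
theorem fpf_of_max {A : Subgroup Γ} (hA : A.Normal) (hAc : ∀ x ∈ A, ∀ y ∈ A, x * y = y * x)
    (hmax : ∀ B : Subgroup Γ, B.Normal → (∀ x ∈ B, ∀ y ∈ B, x * y = y * x) → A ≤ B → B = A) {x : Γ}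
    (hx : ∀ y ∈ A, x * y = y * x) (hg : ∀ g : Γ, g * x * g⁻¹ * x⁻¹ ∈ A) : x ∈ A := by
  set B : Subgroup Γ := Subgroup.zpowers x ⊔ A with hB
  have hAB : A ≤ B := le_sup_right
  have hxB : x ∈ B := (le_sup_left : Subgroup.zpowers x ≤ B) (Subgroup.mem_zpowers x)
  have hn : B.Normal := by
    refine ⟨fun u hu g => ?_⟩
    obtain ⟨k, hk, a, ha, rfl⟩ := Subgroup.mem_sup_of_normal_right.1 hu
    obtain ⟨n, rfl⟩ := Subgroup.mem_zpowers_iff.1 hk
    have e : g * (x ^ n * a) * g⁻¹ = (g * x * g⁻¹) ^ n * (g * a * g⁻¹) := by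
      rw [conj_zpow]; group
    rw [e]
    have h1 : g * x * g⁻¹ ∈ B := by
      have : g * x * g⁻¹ = (g * x * g⁻¹ * x⁻¹) * x := by group
      rw [this]
      exact B.mul_mem (hAB (hg g)) hxB
    exact B.mul_mem (B.zpow_mem h1 n) (hAB (hA.conj_mem a ha g))
  have hc : ∀ u ∈ B, ∀ v ∈ B, u * v = v * u := by
    intro u hu v hv
    obtain ⟨k, hk, a, ha, rfl⟩ := Subgroup.mem_sup_of_normal_right.1 hu
    obtain ⟨k', hk', a', ha', rfl⟩ := Subgroup.mem_sup_of_normal_right.1 hv
    obtain ⟨n, rfl⟩ := Subgroup.mem_zpowers_iff.1 hk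
    obtain ⟨n', rfl⟩ := Subgroup.mem_zpowers_iff.1 hk'
    have c1 : Commute x a := hx a ha
    have c2 : Commute x a' := hx a' ha'
    have c3 : Commute a a' := hAc a ha a' ha'
    have h1 : Commute (x ^ n) (x ^ n') := (Commute.refl x).zpow_zpow n n'
    have h2 : Commute (x ^ n) a' := c2.zpow_left n
    have h3 : Commute a (x ^ n') := (c1.zpow_left n').symm
    exact ((h1.mul_right h2).mul_left (h3.mul_right c3))
  rw [← hmax B hn hc hAB]
  exact hxB

theorem card_mul_relIndex {A B : Subgroup Γ} (h : A ≤ B) : Nat.card A * A.relIndex B = Nat.card B := by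
  have := Subgroup.relIndex_mul_relIndex ⊥ A B bot_le h
  rwa [Subgroup.relIndex_bot_left, Subgroup.relIndex_bot_left] at this

/-- `N = E A` by counting -/
theorem mem_sup_of_card [Finite Γ] {A N E : Subgroup Γ} (hA : A.Normal) (hAN : A ≤ N) (hEN : E ≤ N) {k : ℕ}
    (hN : Nat.card N = Nat.card A * k) (hE : Nat.card E = 2 * k) (hAE : Nat.card (A ⊓ E : Subgroup Γ) ≤ 2) :
    N ≤ E ⊔ A := by
  have h1 : A.relIndex (E ⊔ A) = A.relIndex E := by
    rw [sup_comm]; exact Subgroup.relIndex_sup_left ..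
  have h2 : (A ⊓ E : Subgroup Γ).relIndex E * Nat.card (A ⊓ E : Subgroup Γ) = Nat.card E := by
    rw [mul_comm]
    exact card_mul_relIndex inf_le_right
  have h2' : A.relIndex E = (A ⊓ E : Subgroup Γ).relIndex E := by rw [Subgroup.inf_relIndex_right]
  have h3 : Nat.card A * A.relIndex (E ⊔ A) = Nat.card (E ⊔ A : Subgroup Γ) :=
    card_mul_relIndex le_sup_right
  have h4 : Nat.card N ≤ Nat.card (E ⊔ A : Subgroup Γ) := by
    rw [hN, ← h3, h1, h2']
    refine Nat.mul_le_mul_left _ ?_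
    rw [hE] at h2
    nlinarith [Nat.zero_le ((A ⊓ E : Subgroup Γ).relIndex E)]
  have h5 : E ⊔ A ≤ N := sup_le hEN hAN
  have h6 := Subgroup.eq_of_le_of_card_ge h5 h4
  rw [h6]

end grp

variable {p : ℕ} [Fact p.Prime] {V : Type u} [AddCommGroup V] [Module (ZMod p) V] [Finite V]
variable {G : Subgroup (V ≃ₗ[ZMod p] V)} {h : ℕ}

/-- the bridge to `ETwo` -/
theorem etwo_of {A F : Subgroup G} (hA : A.Normal) (hF : F.Normal) (hAF : A ≤ F)
    (hAc : ∀ x ∈ A, ∀ y ∈ A, x * y = y * x)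
    (hmax : ∀ B : Subgroup G, B.Normal → (∀ x ∈ B, ∀ y ∈ B, x * y = y * x) → A ≤ B → B = A)
    (hcen : ∀ x ∈ F, ∀ y ∈ A, x * y = y * x) (hcomm : ∀ x ∈ F, ∀ y ∈ F, ⁅x, y⁆ ∈ A)
    (hC : ∀ g : G, (∀ x ∈ F, g * x = x * g) → g ∈ A) (hcyc : IsCyclic A)
    (hsemi : ∀ z ∈ A, z ≠ 1 → ∀ v : V, z • v = v → v = 0) (hsq : ∀ x ∈ F, x ^ 2 ∈ A)
    (hcard : Nat.card F = 4 * Nat.card A) : ETwo G (up A) (up F) where
  AF := up_mono hAF
  FG := up_le F
  nA := up_normal hA
  nF := up_normal hF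
  cyc := cyclic_up hcyc
  semi := by
    intro a ha ha1 v hv
    obtain ⟨y, hy, rfl⟩ := mem_up.1 ha
    exact hsemi y hy (fun h => ha1 (by rw [h]; rfl)) v hv
  cenA := fun a ha x hx => (comm_up hcen x hx a ha).symm
  card := by rw [card_up, card_up, hcard]
  comm := by
    intro x hx y hy
    obtain ⟨x', hx', rfl⟩ := mem_up.1 hx
    obtain ⟨y', hy', rfl⟩ := mem_up.1 hy
    exact mem_up.2 ⟨_, hcomm x' hx' y' hy', rfl⟩
  sq := by
    intro x hx
    obtain ⟨x', hx', rfl⟩ := mem_up.1 hx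
    exact mem_up.2 ⟨_, hsq x' hx', by rw [pow_two]; rfl⟩
  cen := by
    intro g hg hgx
    refine (coe_mem_up (x := ⟨g, hg⟩)).2 (hC _ fun x hx => ?_)
    exact Subtype.ext (hgx x (coe_mem_up.2 hx))
  fpf := by
    intro x hx hgx
    obtain ⟨x', hx', rfl⟩ := mem_up.1 hx
    refine coe_mem_up.2 (fpf_of_max hA hAc hmax (hcen x' hx') fun g => ?_)
    exact coe_mem_up.1 (hgx g g.2)

/-- **quasi-primitive groups** -/
theorem qp_case (T : Leaves.{u}) [Nontrivial V] (hirr : Irr G)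
    (hhom : ∀ N : Subgroup (V ≃ₗ[ZMod p] V), N ≤ G → (∀ g ∈ G, ∀ n ∈ N, g * n * g⁻¹ ∈ N) → Homog N)
    (hsol : Group.IsSolvable G) (hcop : ¬ p ∣ Nat.card G) (hh : Half G h) (h2 : 2 ≤ h) :
    (∃ S : Subgroup (V ≃ₗ[ZMod p] V), IsCyclic S ∧ Nat.card S = Nat.card V - 1 ∧
      ∀ g ∈ G, ∀ s ∈ S, g * s * g⁻¹ ∈ S) ∨ Nat.card V ∈ ({9, 25, 49, 121, 289, 81} : Set ℕ) := by
  have hfinE : Finite (V ≃ₗ[ZMod p] V) := finG
  have hq : QPr G := qpr hirr hhom
  obtain ⟨A, F, hA, hF, hAF, hAc, hmax, hor⟩ := Cfsg.Agent.H559.HT.exists_F (G := G)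
  rcases hor with ⟨L, hLn, hL1, hL2, -⟩ | ⟨hcen, hcomm, hexp, hC⟩
  · exact absurd (Group.IsSolvable.commutator_lt_of_ne_bot hL1) (by rw [hL2]; exact lt_irrefl _)
  obtain ⟨hcyc, hsemi⟩ := Cfsg.Agent.H298.HT.cyclic_semi hq hA hAc
  have hodd : ∀ s : ℕ, s.Prime → s ≠ 2 → ∀ x ∈ F, x ^ s ∈ A → x ∈ A := by
    intro s hs hs2 x hx hxs
    obtain ⟨N, hN, hAN, hmem, hor⟩ := Cfsg.Agent.H298.HT.sym_of_F hq hcop hA hF hAF hAc hmax hcen hcomm hexp hs
    rcases hor with rfl | ⟨a, ha, H, hc, hfull⟩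
    · exact (hmem x).2 ⟨hx, hxs⟩
    · exfalso
      refine T.full_false (up_le N) (up_normal hN) hcop hh h2 (sym_up H) (full_up (hfull (Or.inl hs2))) (Or.inl ?_)
      have := hs.two_le
      omega
  obtain ⟨n, hnsq, hn⟩ := hexp
  have hsq : ∀ x ∈ F, x ^ 2 ∈ A := fun x hx => sq_mem hodd n hnsq x hx (hn x hx)
  obtain ⟨N, hN, hAN, hmem, hor⟩ := Cfsg.Agent.H298.HT.sym_of_F hq hcop hA hF hAF hAc hmax hcen hcomm ⟨n, hnsq, hn⟩
    Nat.prime_two
  have hFN : F = N := by
    apply le_antisymm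
    · intro x hx
      exact (hmem x).2 ⟨hx, hsq x hx⟩
    · intro x hx
      exact ((hmem x).1 hx).1
  obtain ⟨K, iK, iM, χ, σ, hK⟩ := T.exists_field hirr (up_le A) (up_normal hA) (comm_up hAc) (hhom _ (up_le A) (up_normal hA))
  rcases hor with hNA | ⟨a, ha, H, hc, hfull⟩
  · left
    refine T.semilinear_case (up_le A) hcop ?_ (comm_up hAc) hK hh h2
    intro g hg hgx
    refine (coe_mem_up (x := ⟨g, hg⟩)).2 (hC _ fun x hx => ?_)
    rw [hFN, hNA] at hx
    exact Subtype.ext (hgx x (coe_mem_up.2 hx))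
  · right
    have hcenN : Nat.card (Subgroup.center N) = Nat.card A := by
      rw [← hc]
      exact Nat.card_congr ((Subgroup.center N).equivMapOfInjective N.subtype N.subtype_injective).toEquiv
    have hcardN := H.card
    rw [hcenN] at hcardN
    by_cases ha1 : a = 1
    · subst ha1
      have E : ETwo G (up A) (up F) := etwo_of hA hF hAF hAc hmax hcen hcomm hC hcyc hsemi hsq (by
        rw [hFN, hcardN]; ring)
      have h3 := e_two_three E
      have hp2 : p ≠ 2 := by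
        rintro rfl
        apply hcop
        have h4 : Nat.card (up F) ∣ Nat.card G := by
          rw [card_up]; exact Subgroup.card_subgroup_dvd_card F
        refine dvd_trans ?_ h4
        rw [card_up, hFN, hcardN]
        exact ⟨Nat.card A * 2, by ring⟩
      have hp3 : p ≠ 3 := by
        rintro rfl
        exact hcop h3
      have hp := (Fact.out : p.Prime)
      have hp5 : 5 ≤ p := by
        have h2p := hp.two_le
        by_contra hlt
        have : p = 4 := by omega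
        rw [this] at hp
        exact absurd hp (by norm_num)
      rcases T.e_two_size E hK hp5 hcop hh h2 with ⟨hV, h5⟩ | ⟨hV, hKc, h5⟩
      · rcases h5 with rfl | rfl | rfl | rfl | rfl
        · rw [hV]; norm_num
        · rw [hV]; norm_num
        · rw [hV]; norm_num
        · exact (T.e_two_thirteen E hK rfl hV hcop hh h2).elim
        · rw [hV]; norm_num
      · rcases h5 with rfl | rfl | rfl
        · exact (T.e_two_five E hK rfl hV hKc hcop hh h2).elim
        · exact (T.e_two_seven E hK rfl hV hKc hcop hh h2).elim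
        · exact (T.e_two_eleven E hK rfl hV hKc hcop hh h2).elim
    · have ha2 : 2 ≤ a := by omega
      by_cases h4 : 4 ∣ Nat.card A
      · exact (T.full_false (up_le N) (up_normal hN) hcop hh h2 (sym_up H) (full_up (hfull (Or.inr h4))) (Or.inr ha2)).elim
      · obtain ⟨E, hE, hEN, HE, hzE⟩ := Cfsg.Agent.H583.HT.two_part hA hN H hc h4
        obtain ⟨h3, rfl⟩ := T.two_three (up_le E) (up_normal hE) hcop hh h2 (sym_up HE)
          (by rw [card_center_up, hzE]) ha2
        subst h3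
        have hcardE := HE.card
        rw [hzE] at hcardE
        have hAE : Nat.card (A ⊓ E : Subgroup G) ≤ 2 := by
          rw [← hzE]
          refine Nat.card_le_card_of_injective
            (fun x : (A ⊓ E : Subgroup G) => (⟨⟨x.1, x.2.2⟩, Subgroup.mem_center_iff.2 fun y => Subtype.ext ?_⟩ :
              Subgroup.center E)) ?_
          · exact hcen y.1 (by rw [hFN]; exact hEN y.2) x.1 x.2.1
          · intro x y hxy
            apply Subtype.ext
            exact congrArg (fun z : Subgroup.center E => ((z : E) : G)) hxy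
        have hNE := mem_sup_of_card hA hAN hEN hcardN hcardE hAE
        have h81 : Nat.card V = 81 := by
          refine T.p_three (up_le A) (up_le E) hcop hh h2 (up_normal hA) (up_normal hE) (cyclic_up hcyc) ?_ ?_
            (sym_up HE) (by rw [card_center_up, hzE]) (by rw [card_up]; exact h4)
          · exact comm_up fun x hx y hy => (hcen y (by rw [hFN]; exact hEN hy) x hx).symm
          · intro g hg hgE hgA
            refine (coe_mem_up (x := ⟨g, hg⟩)).2 (hC _ fun x hx => ?_)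
            rw [hFN] at hx
            obtain ⟨y, hy, c, hc', rfl⟩ := Subgroup.mem_sup_of_normal_right.1 (hNE hx)
            have c1 : Commute (⟨g, hg⟩ : G) y := Subtype.ext (hgE y (coe_mem_up.2 hy))
            have c2 : Commute (⟨g, hg⟩ : G) c := Subtype.ext (hgA c (coe_mem_up.2 hc'))
            exact c1.mul_right c2
        rw [h81]; norm_num

/-- **Soluble half-transitive linear groups of order prime to `p`** (Passman) -/
theorem sol_coprime (T : Leaves.{u}) [Nontrivial V] (hsol : Group.IsSolvable G) (hcop : ¬ p ∣ Nat.card G) (hh : Half G h)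
    (h2 : 2 ≤ h) :
    (∃ S : Subgroup (V ≃ₗ[ZMod p] V), IsCyclic S ∧ Nat.card S = Nat.card V - 1 ∧
      ∀ g ∈ G, ∀ s ∈ S, g * s * g⁻¹ ∈ S) ∨
    (p ≠ 2 ∧ ∃ q : ℕ, Nat.card V = q ^ 2 ∧ Nat.card G = 4 * (q - 1)) ∨
    Nat.card V ∈ ({9, 25, 49, 121, 289, 81} : Set ℕ) := by
  have hirr : Irr G := Cfsg.Agent.H960.HT.irr_of_half hcop hh h2
  by_cases hhom : ∀ N : Subgroup (V ≃ₗ[ZMod p] V), N ≤ G → (∀ g ∈ G, ∀ n ∈ N, g * n * g⁻¹ ∈ N) → Homog N
  · rcases qp_case T hirr hhom hsol hcop hh h2 with h1 | h1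
    · exact Or.inl h1
    · exact Or.inr (Or.inr h1)
  · push Not at hhom
    obtain ⟨N, -, hN, hnh⟩ := hhom
    obtain ⟨B, H⟩ := (Cfsg.Agent.H960.HT.clifford hirr hN).resolve_left hnh
    by_cases hp2 : p = 2
    · subst hp2
      exact (imp_odd H (Nat.not_even_iff_odd.1 fun he => hcop he.two_dvd) hh h2 hirr).elim
    · rcases H.cases hp2 hh h2 hcop hirr with ⟨-, r, h1, h3, -⟩ | ⟨-, h1, -⟩
      · exact Or.inr (Or.inl ⟨hp2, r, h1, h3⟩)
      · right; right
        rw [h1]; norm_num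

end Cfsg.Agent.H192.Ht
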