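import Cfsg.Agent.H19.HT.Gen
import Cfsg.Agent.H828.HT.Basic

/-!
# Half-transitive linear groups: the inequality (III') (helper192)

`n² h ≤ (n + (h - 1)(m - 1)) (n + (m - 1)(m - 2))` for `n = |V|`, `|G| = m h`, in every characteristic.
-/

set_option autoImplicit false
set_option linter.unusedSectionVars false

open scoped Classical

namespace Cfsg.Agent.H192.Ht

open Cfsg.Agent.H828.HT

universe u

variable {p : ℕ} [Fact p.Prime] {V : Type u} [AddCommGroup V] [Module (ZMod p) V] [Finite V]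
variable {G : Subgroup (V ≃ₗ[ZMod p] V)} {h : ℕ}

/-- the `w` with `w + δ ∈ G w` -/
noncomputable def T (G : Subgroup (V ≃ₗ[ZMod p] V)) (δ : V) : Finset V :=
  Finset.univ.filter fun w => ∃ g : G, (g : V ≃ₗ[ZMod p] V) w = w + δ

theorem card_T (hh : Half G h) (h0 : 0 < h) {m : ℕ} (hm : m * h = Nat.card G) {δ : V} (hδ : δ ≠ 0) :
    (T G δ).card + 1 = m := by
  have h1 := Cfsg.Agent.H19.HT.ident hh hδ
  rw [pairs_card] at h1
  have h2 : ∑ w : V, Nat.card {g : G // (g : V ≃ₗ[ZMod p] V) w = w + δ} = (T G δ).card * h := by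
    rw [← Finset.sum_filter_add_sum_filter_not Finset.univ
      (fun w : V => ∃ g : G, (g : V ≃ₗ[ZMod p] V) w = w + δ)]
    have e1 : ∑ w ∈ Finset.univ.filter (fun w : V => ∃ g : G, (g : V ≃ₗ[ZMod p] V) w = w + δ),
        Nat.card {g : G // (g : V ≃ₗ[ZMod p] V) w = w + δ} =
        ∑ _w ∈ Finset.univ.filter (fun w : V => ∃ g : G, (g : V ≃ₗ[ZMod p] V) w = w + δ), h := by
      refine Finset.sum_congr rfl fun w hw => ?_
      obtain ⟨g, hg⟩ := (Finset.mem_filter.1 hw).2
      rw [card_transporter g hg]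
      apply hh
      rintro rfl
      rw [map_zero, zero_add] at hg
      exact hδ hg.symm
    have e2 : ∑ w ∈ Finset.univ.filter (fun w : V => ¬ ∃ g : G, (g : V ≃ₗ[ZMod p] V) w = w + δ),
        Nat.card {g : G // (g : V ≃ₗ[ZMod p] V) w = w + δ} = 0 := by
      refine Finset.sum_eq_zero fun w hw => ?_
      have hn := (Finset.mem_filter.1 hw).2
      have : IsEmpty {g : G // (g : V ≃ₗ[ZMod p] V) w = w + δ} := ⟨fun g => hn ⟨g.1, g.2⟩⟩
      exact Nat.card_of_isEmpty
    rw [e1, e2, add_zero, Finset.sum_const, smul_eq_mul]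
    rfl
  rw [h2, ← hm] at h1
  have h3 : ((T G δ).card + 1) * h = m * h := by rw [← h1]; ring
  exact Nat.eq_of_mul_eq_mul_right h0 h3

/-- the orbit of `w` under the stabiliser of `u` -/
noncomputable def O (G : Subgroup (V ≃ₗ[ZMod p] V)) (u w : V) : Finset V :=
  Finset.univ.filter fun w' => ∃ g : G, (g : V ≃ₗ[ZMod p] V) u = u ∧ (g : V ≃ₗ[ZMod p] V) w = w'

/-- orbit-stabiliser for the stabiliser of `u` -/
theorem card_O_mul (G : Subgroup (V ≃ₗ[ZMod p] V)) (u w : V) :
    (O G u w).card * Nat.card {g : G // (g : V ≃ₗ[ZMod p] V) u = u ∧ (g : V ≃ₗ[ZMod p] V) w = w} =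
      Nat.card (MulAction.stabilizer G u) := by
  have h1 := MulAction.card_orbit_mul_card_stabilizer_eq_card_group (MulAction.stabilizer G u) w
  rw [← Nat.card_eq_fintype_card, ← Nat.card_eq_fintype_card, ← Nat.card_eq_fintype_card] at h1
  rw [← h1]
  congr 1
  · rw [Nat.card_eq_fintype_card, ← Set.toFinset_card]
    congr 1
    ext w'
    simp only [O, Finset.mem_filter, Finset.mem_univ, true_and, Set.mem_toFinset, MulAction.mem_orbit_iff]
    constructor
    · rintro ⟨g, h1, h2⟩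
      exact ⟨⟨g, h1⟩, h2⟩
    · rintro ⟨g, hg⟩
      exact ⟨g.1, g.2, hg⟩
  · refine Nat.card_congr ⟨fun g => ⟨⟨g.1, g.2.1⟩, g.2.2⟩, fun g => ⟨g.1.1, g.1.2, g.2⟩, fun _ => rfl, fun _ => rfl⟩

/-- Burnside count for the stabiliser of `u` -/
theorem sum_stab_le (hh : Half G h) (h0 : 0 < h) {m : ℕ} (hm : m * h = Nat.card G) {u : V} (hu : u ≠ 0) :
    ∑ w : V, Nat.card {g : G // (g : V ≃ₗ[ZMod p] V) u = u ∧ (g : V ≃ₗ[ZMod p] V) w = w} ≤
      Nat.card V + (h - 1) * (m - 1) := by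
  have h1 : ∀ w : V, Nat.card {g : G // (g : V ≃ₗ[ZMod p] V) u = u ∧ (g : V ≃ₗ[ZMod p] V) w = w} =
      ∑ g ∈ Finset.univ.filter (fun g : G => (g : V ≃ₗ[ZMod p] V) u = u),
        if (g : V ≃ₗ[ZMod p] V) w = w then 1 else 0 := by
    intro w
    rw [Finset.sum_boole, Nat.cast_id, Nat.card_eq_fintype_card, Fintype.card_subtype, Finset.filter_filter]
  simp_rw [h1]
  rw [Finset.sum_comm]
  have h2 : ∀ g : G, (∑ w : V, if (g : V ≃ₗ[ZMod p] V) w = w then 1 else 0) =
      Nat.card (fx (g : V ≃ₗ[ZMod p] V)) := by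
    intro g
    rw [Finset.sum_boole, Nat.cast_id, Nat.card_eq_fintype_card, Fintype.card_subtype]
    congr 1
    ext v
    simp
  simp_rw [h2]
  have h3 : (1 : G) ∈ Finset.univ.filter (fun g : G => (g : V ≃ₗ[ZMod p] V) u = u) := by simp
  rw [← Finset.add_sum_erase _ _ h3]
  have e1 : Nat.card (fx ((1 : G) : V ≃ₗ[ZMod p] V)) = Nat.card V := by
    rw [Subgroup.coe_one, fx_one]
    exact Nat.card_congr Submodule.topEquiv.toEquiv
  have h4 : (Finset.univ.filter (fun g : G => (g : V ≃ₗ[ZMod p] V) u = u)).card = h := by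
    rw [← hh u hu, Nat.card_eq_fintype_card, ← Fintype.card_subtype]
    exact Fintype.card_congr (Equiv.subtypeEquivRight fun g => Iff.rfl)
  have h5 : ∑ g ∈ (Finset.univ.filter (fun g : G => (g : V ≃ₗ[ZMod p] V) u = u)).erase 1,
      Nat.card (fx (g : V ≃ₗ[ZMod p] V)) ≤
      ∑ _g ∈ (Finset.univ.filter (fun g : G => (g : V ≃ₗ[ZMod p] V) u = u)).erase 1, (m - 1) := by
    refine Finset.sum_le_sum fun g hg => ?_
    have := Cfsg.Agent.H19.HT.fx_lt hh h0 hm (Finset.ne_of_mem_erase hg)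
    omega
  rw [Finset.sum_const, Finset.card_erase_of_mem h3, h4, smul_eq_mul] at h5
  rw [e1]
  exact Nat.add_le_add_left h5 _

/-- Cauchy-Schwarz -/
theorem sq_le (hh : Half G h) (h0 : 0 < h) {m : ℕ} (hm : m * h = Nat.card G) {u : V} (hu : u ≠ 0) :
    Nat.card V ^ 2 * h ≤ (∑ w : V, (O G u w).card) * (Nat.card V + (h - 1) * (m - 1)) := by
  refine le_trans ?_ (Nat.mul_le_mul_left _ (sum_stab_le hh h0 hm hu))
  have h1 := Finset.sum_sq_le_sum_mul_sum_of_sq_le_mul (Finset.univ : Finset V) (r := fun _ => Real.sqrt h)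
    (f := fun w => ((O G u w).card : ℝ))
    (g := fun w => (Nat.card {g : G // (g : V ≃ₗ[ZMod p] V) u = u ∧ (g : V ≃ₗ[ZMod p] V) w = w} : ℝ))
    (fun _ _ => Nat.cast_nonneg _) (fun _ _ => Nat.cast_nonneg _) (by
      intro w _
      rw [Real.sq_sqrt (Nat.cast_nonneg _), ← Nat.cast_mul, card_O_mul, hh u hu])
  rw [Finset.sum_const, Finset.card_univ, nsmul_eq_mul, mul_pow, Real.sq_sqrt (Nat.cast_nonneg _),
    ← Nat.card_eq_fintype_card] at h1
  exact_mod_cast h1

/-- the pairs in one orbit of the stabiliser of some `u ≠ 0` -/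
noncomputable def LL (G : Subgroup (V ≃ₗ[ZMod p] V)) : Finset (V × V × V) :=
  Finset.univ.filter fun x => x.1 ≠ 0 ∧ x.2.2 ∈ (O G x.1 x.2.1).erase x.2.1

/-- the pairs of elements of `T δ` -/
noncomputable def RR (G : Subgroup (V ≃ₗ[ZMod p] V)) : Finset (V × V × V) :=
  Finset.univ.filter fun x => x.1 ≠ 0 ∧ (x.2.1, x.2.2) ∈ (T G x.1).offDiag

theorem self_mem_O (G : Subgroup (V ≃ₗ[ZMod p] V)) (u w : V) : w ∈ O G u w := by
  simp only [O, Finset.mem_filter, Finset.mem_univ, true_and]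
  exact ⟨1, rfl, rfl⟩

theorem card_LL (G : Subgroup (V ≃ₗ[ZMod p] V)) :
    (LL G).card + (Nat.card V - 1) * Nat.card V =
      ∑ u ∈ (Finset.univ.erase (0 : V)), ∑ w : V, (O G u w).card := by
  have h1 : (LL G).card = ∑ u ∈ (Finset.univ.erase (0 : V)), ∑ w : V, ((O G u w).erase w).card := by
    rw [LL, Finset.card_filter, Fintype.sum_prod_type, ← Finset.filter_ne' Finset.univ (0 : V),
      Finset.sum_filter]
    refine Finset.sum_congr rfl fun u _ => ?_
    rw [Fintype.sum_prod_type]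
    by_cases hu : u = 0
    · simp [hu]
    · rw [if_pos hu]
      refine Finset.sum_congr rfl fun w _ => ?_
      simp only [hu, ne_eq, not_false_eq_true, true_and]
      rw [← Finset.card_filter]
      congr 1
      ext w'
      simp
  have h2 : (Nat.card V - 1) * Nat.card V = ∑ _u ∈ (Finset.univ.erase (0 : V)), ∑ _w : V, 1 := by
    rw [Finset.sum_const, Finset.sum_const, Finset.card_erase_of_mem (Finset.mem_univ _), Finset.card_univ,
      ← Nat.card_eq_fintype_card]
    simp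
  rw [h1, h2, ← Finset.sum_add_distrib]
  refine Finset.sum_congr rfl fun u _ => ?_
  rw [← Finset.sum_add_distrib]
  refine Finset.sum_congr rfl fun w _ => ?_
  exact Finset.card_erase_add_one (self_mem_O G u w)

theorem card_RR (hh : Half G h) (h0 : 0 < h) {m : ℕ} (hm : m * h = Nat.card G) :
    (RR G).card = (Nat.card V - 1) * ((m - 1) * (m - 2)) := by
  have h1 : (RR G).card = ∑ u ∈ (Finset.univ.erase (0 : V)), (T G u).offDiag.card := by
    rw [RR, Finset.card_filter, Fintype.sum_prod_type, ← Finset.filter_ne' Finset.univ (0 : V),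
      Finset.sum_filter]
    refine Finset.sum_congr rfl fun u _ => ?_
    by_cases hu : u = 0
    · simp [hu]
    · rw [if_pos hu]
      simp only [hu, ne_eq, not_false_eq_true, true_and]
      rw [← Finset.card_filter]
      congr 1
      ext x
      simp
  have h2 : ∑ u ∈ (Finset.univ.erase (0 : V)), (T G u).offDiag.card =
      ∑ _u ∈ (Finset.univ.erase (0 : V)), (m - 1) * (m - 2) := by
    refine Finset.sum_congr rfl fun u hu => ?_
    have h3 := card_T hh h0 hm (Finset.ne_of_mem_erase hu)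
    rw [Finset.offDiag_card]
    obtain ⟨k, hk⟩ : ∃ k, (T G u).card = k := ⟨_, rfl⟩
    rw [hk] at h3 ⊢
    subst h3
    rw [Nat.add_sub_cancel, show k + 1 - 2 = k - 1 by omega, Nat.mul_sub_one]
  rw [h1, h2, Finset.sum_const, Finset.card_erase_of_mem (Finset.mem_univ _), Finset.card_univ,
    ← Nat.card_eq_fintype_card, smul_eq_mul]

theorem card_LL_le (G : Subgroup (V ≃ₗ[ZMod p] V)) : (LL G).card ≤ (RR G).card := by
  refine Finset.card_le_card_of_injOn (fun x => (x.2.2 - x.2.1, x.2.1, x.2.1 - x.1)) ?_ ?_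
  · rintro ⟨u, w, w'⟩ hx
    simp only [LL, RR, O, T, Finset.coe_filter, Finset.mem_univ, true_and, Set.mem_ofPred_eq,
      Finset.mem_erase, Finset.mem_filter, Finset.mem_offDiag] at hx ⊢
    obtain ⟨hu, hne, g, hg1, hg2⟩ := hx
    refine ⟨sub_ne_zero.2 hne, ⟨g, ?_⟩, ⟨g, ?_⟩, ?_⟩
    · rw [hg2]; abel
    · rw [map_sub, hg1, hg2]; abel
    · intro hc
      apply hu
      have : w - (w - u) = 0 := by rw [← hc]; abel
      simpa using this
  · rintro ⟨u, w, w'⟩ _ ⟨u₁, w₁, w₁'⟩ _ hxy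
    simp only [Prod.mk.injEq] at hxy
    obtain ⟨h1, h2, h3⟩ := hxy
    subst h2
    have h4 : w' = w₁' := sub_left_injective h1
    have h5 : u = u₁ := sub_right_injective h3
    rw [h4, h5]

/-- **(III')** -/
theorem ineq (hh : Half G h) (h0 : 0 < h) {m : ℕ} (hm : m * h = Nat.card G) [Nontrivial V] :
    Nat.card V ^ 2 * h ≤
      (Nat.card V + (m - 1) * (m - 2)) * (Nat.card V + (h - 1) * (m - 1)) := by
  have hV : 1 < Nat.card V := Finite.one_lt_card
  have h1 : ∑ _u ∈ (Finset.univ.erase (0 : V)), Nat.card V ^ 2 * h ≤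
      ∑ u ∈ (Finset.univ.erase (0 : V)), (∑ w : V, (O G u w).card) * (Nat.card V + (h - 1) * (m - 1)) :=
    Finset.sum_le_sum fun u hu => sq_le hh h0 hm (Finset.ne_of_mem_erase hu)
  rw [Finset.sum_const, ← Finset.sum_mul, ← card_LL, Finset.card_erase_of_mem (Finset.mem_univ _),
    Finset.card_univ, ← Nat.card_eq_fintype_card, smul_eq_mul] at h1
  have h2 := card_LL_le G
  rw [card_RR hh h0 hm] at h2
  refine Nat.le_of_mul_le_mul_left (h1.trans ?_) (Nat.sub_pos_of_lt hV)
  rw [← mul_assoc]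
  refine Nat.mul_le_mul_right _ ?_
  rw [mul_add]
  omega

end Cfsg.Agent.H192.Ht
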