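import Cfsg.Agent.H742.HT.QL
import Cfsg.Agent.H391.HT.NumP
import Cfsg.Agent.H192.Ht.Ineq
import Cfsg.Agent.H19.HT.Irr
import Cfsg.Agent.H337.HT.Cand

/-!
# S3512, quasisimple rows: from the setting `QL` to the numerical conditions `CP` (helper192)

The code is that of `H337.HT.Cand` without the coprimality hypothesis.
-/

set_option autoImplicit false
set_option linter.unusedSectionVars false
set_option linter.style.haveILetI false

universe u w

namespace Cfsg.Agent.H192.Ht

open Cfsg.Agent.H828.HT Cfsg.Agent.H742.HT Cfsg.Agent.H391.HT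

section half

variable {p : ℕ} [Fact p.Prime] {V : Type u} [AddCommGroup V] [Module (ZMod p) V] [Finite V]
  {G : Subgroup (V ≃ₗ[ZMod p] V)} {h : ℕ}

/-- the sharp form of `H19.HT.card_le` -/
theorem half_le (hh : Half G h) (h0 : 0 < h) {m : ℕ} (hm : m * h = Nat.card G) :
    (h - 1) * Nat.card V ≤ h * m ^ 2 := by
  classical
  have h1 := sum_fx_half hh
  rw [← Finset.add_sum_erase _ _ (Finset.mem_univ (1 : G))] at h1
  have e1 : Nat.card (fx ((1 : G) : V ≃ₗ[ZMod p] V)) = Nat.card V := by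
    rw [Subgroup.coe_one, fx_one]
    exact Nat.card_congr Submodule.topEquiv.toEquiv
  rw [e1] at h1
  have h2 : ∑ g ∈ Finset.univ.erase (1 : G), Nat.card (fx (g : V ≃ₗ[ZMod p] V)) ≤
      ∑ _g ∈ Finset.univ.erase (1 : G), (m - 1) := by
    refine Finset.sum_le_sum fun g hg => ?_
    have := Cfsg.Agent.H19.HT.fx_lt hh h0 hm (Finset.ne_of_mem_erase hg)
    omega
  rw [Finset.sum_const, Finset.card_erase_of_mem (Finset.mem_univ _), Finset.card_univ,
    ← Nat.card_eq_fintype_card, smul_eq_mul, ← hm] at h2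
  rw [← hm] at h1
  have hGpos : 0 < Nat.card G := Nat.card_pos
  rw [← hm] at hGpos
  obtain ⟨k, rfl⟩ : ∃ k, h = k + 1 := ⟨h - 1, by omega⟩
  obtain ⟨j, rfl⟩ : ∃ j, m = j + 1 := ⟨m - 1, by
    have : 0 < m := by
      rcases Nat.eq_zero_or_pos m with rfl | hm0
      · simp at hGpos
      · exact hm0
    omega⟩
  simp only [Nat.add_sub_cancel] at h2 ⊢
  set N := Nat.card V
  set s := ∑ g ∈ Finset.univ.erase (1 : G), Nat.card (fx (g : V ≃ₗ[ZMod p] V))
  have h3 : (j + 1) * (k + 1) - 1 = j * k + j + k := by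
    have : (j + 1) * (k + 1) = j * k + j + k + 1 := by ring
    omega
  rw [h3] at h2
  nlinarith

/-- in a group which is not transitive the orbits have length `< |V| - 1` -/
theorem m_lt (hh : Half G h) (h0 : 0 < h) {m : ℕ} (hm : m * h = Nat.card G) (hn : ¬ Tr G) [Nontrivial V] :
    m < Nat.card V - 1 := by
  classical
  have hdvd : m ∣ Nat.card V - 1 := dvd_card_sub_one hh h0 hm
  have hV : 1 < Nat.card V := Finite.one_lt_card
  refine lt_of_le_of_ne (Nat.le_of_dvd (by omega) hdvd) ?_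
  intro hc
  apply hn
  intro v w hv hw
  have h1 : Nat.card (MulAction.orbit G v) = m := by
    have h2 := MulAction.card_orbit_mul_card_stabilizer_eq_card_group G v
    rw [← Nat.card_eq_fintype_card, ← Nat.card_eq_fintype_card, ← Nat.card_eq_fintype_card] at h2
    rw [hh v hv, ← hm] at h2
    exact Nat.eq_of_mul_eq_mul_right h0 h2
  have h2 : MulAction.orbit G v = {x : V | x ≠ 0} := by
    refine Set.eq_of_subset_of_ncard_le ?_ ?_ (Set.toFinite _)
    · rintro _ ⟨g, rfl⟩ hz
      exact hv ((g : V ≃ₗ[ZMod p] V).map_eq_zero_iff.1 hz)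
    · rw [← Nat.card_coe_set_eq, ← Nat.card_coe_set_eq, h1, hc]
      have : Nat.card {x : V | x ≠ 0} + 1 = Nat.card V := by
        have h3 : {x : V | x ≠ 0} = {(0 : V)}ᶜ := by ext; simp
        rw [h3, Nat.card_coe_set_eq]
        have := Set.ncard_add_ncard_compl {(0 : V)}
        rw [Set.ncard_singleton] at this
        omega
      omega
  have h3 : w ∈ MulAction.orbit G v := by rw [h2]; exact hw
  obtain ⟨g, hg⟩ := h3
  exact ⟨g, g.2, hg⟩

end half

variable {p : ℕ} [Fact p.Prime] {K : Type w} [Field K] {V : Type u} [AddCommGroup V] [Module (ZMod p) V] [Finite V]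
    [Module K V] {G L : Subgroup (V ≃ₗ[ZMod p] V)} {h : ℕ}

namespace QN

open Cfsg.Agent.H337.HT.QS (qt eq_one_of_qt sc sc_apply)

theorem exists_ne (H : QL p K V G L h) : ∃ v : V, v ≠ 0 := by
  obtain ⟨a, -, b, -, hab⟩ := H.nonab
  by_contra hcon
  push Not at hcon
  exact hab (LinearEquiv.ext fun v => by rw [hcon ((a * b) v), hcon ((b * a) v)])

theorem finiteK (H : QL p K V G L h) : Finite K := by
  obtain ⟨v, hv⟩ := exists_ne H
  exact Finite.of_injective (fun c : K => c • v) fun a b hab => by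
    by_contra hne
    have h1 : (a - b) • v = 0 := by rw [sub_smul, sub_eq_zero]; exact hab
    rcases smul_eq_zero.1 h1 with h2 | h2
    · exact hne (sub_eq_zero.1 h2)
    · exact hv h2

theorem finiteDim (_ : QL p K V G L h) : Module.Finite K V := Module.Finite.of_finite

theorem card_V (_ : QL p K V G L h) : Nat.card V = Nat.card K ^ Module.finrank K V :=
  Module.natCard_eq_pow_finrank

theorem finrank_pos (H : QL p K V G L h) : 0 < Module.finrank K V := by
  have := (finiteDim H)
  obtain ⟨v, hv⟩ := exists_ne H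
  have : Nontrivial V := ⟨v, 0, hv⟩
  exact Module.finrank_pos

theorem exists_card (H : QL p K V G L h) : ∃ k, Nat.card K = p ^ k ∧ 0 < k := by
  have hK := (finiteK H)
  have h1 : Nat.card K ∣ p ^ Module.finrank (ZMod p) V := by
    rw [← card_eq_pow (p := p) V, (card_V H)]
    exact dvd_pow_self _ (finrank_pos H).ne'
  obtain ⟨k, -, hk⟩ := (Nat.dvd_prime_pow Fact.out).1 h1
  refine ⟨k, hk, Nat.pos_of_ne_zero ?_⟩
  rintro rfl
  have := Finite.one_lt_card (α := K)
  rw [hk, pow_zero] at this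
  omega

theorem card_quot_dvd_L (_ : QL p K V G L h) : Nat.card (L ⧸ Subgroup.center L) ∣ Nat.card L :=
  Subgroup.card_quotient_dvd_card _

theorem card_L_dvd (H : QL p K V G L h) : Nat.card L ∣ Nat.card G := Subgroup.card_dvd_of_le H.le

theorem two_le_card (H : QL p K V G L h) : 2 ≤ Nat.card K := by
  have := (finiteK H)
  exact Finite.one_lt_card

/-! ### The action on `L / Z(L)` -/

theorem normal (H : QL p K V G L h) : (L.subgroupOf G).Normal :=
  ⟨fun n hn g => H.nrm g g.2 n hn⟩

/-- conjugation of `L` by an element of `G` -/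
def cj (H : QL p K V G L h) : G →* MulAut L where
  toFun g :=
    { toFun := fun l => ⟨g * l * g⁻¹, H.nrm g g.2 l l.2⟩
      invFun := fun l => ⟨(g : V ≃ₗ[ZMod p] V)⁻¹ * l * g, by
        have := H.nrm _ (G.inv_mem g.2) l l.2
        rwa [inv_inv] at this⟩
      left_inv := fun l => Subtype.ext (by simp [mul_assoc])
      right_inv := fun l => Subtype.ext (by simp [mul_assoc])
      map_mul' := fun a b => Subtype.ext (by simp [mul_assoc]) }
  map_one' := by ext l : 2; simp
  map_mul' a b := by ext l : 2; simp [mul_assoc]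

@[simp] theorem cj_apply (H : QL p K V G L h) (g : G) (l : L) :
    (((cj H) g l : L) : V ≃ₗ[ZMod p] V) = g * l * (g : V ≃ₗ[ZMod p] V)⁻¹ := rfl

/-- elements of `G` acting trivially on `L / Z(L)` are scalars -/
theorem scalar_of_qt (H : QL p K V G L h) {g : G} (hg : qt ((cj H) g) = 1) : ∃ c : K, ∀ v, (g : V ≃ₗ[ZMod p] V) v = c • v := by
  have h1 := eq_one_of_qt H.perf hg
  refine H.endo (g : V ≃ₗ[ZMod p] V) fun l hl v => ?_
  have h2 : (cj H) g ⟨l, hl⟩ = ⟨l, hl⟩ := by rw [h1]; rfl
  have h3 : (g : V ≃ₗ[ZMod p] V) * l * (g : V ≃ₗ[ZMod p] V)⁻¹ = l := congrArg Subtype.val h2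
  have h4 : (g : V ≃ₗ[ZMod p] V) * l = l * g := by rw [← mul_inv_eq_iff_eq_mul]; exact h3
  exact LinearEquiv.congr_fun h4 v

theorem card_G_dvd (H : QL p K V G L h) :
    Nat.card G ∣ (Nat.card K - 1) * Nat.card (MulAut (L ⧸ Subgroup.center L)) := by
  have hK := (finiteK H)
  set f : G →* MulAut (L ⧸ Subgroup.center L) := qt.comp (cj H) with hf
  have h1 : Nat.card G = Nat.card f.ker * Nat.card f.range := by
    rw [← Subgroup.index_ker f, mul_comm, Subgroup.index_mul_card]
  rw [h1]
  refine Nat.mul_dvd_mul ?_ (Subgroup.card_subgroup_dvd_card _)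
  have h2 : Nat.card f.ker = Nat.card (f.ker.map G.subtype) :=
    Nat.card_congr (f.ker.equivMapOfInjective _ G.subtype_injective).toEquiv
  have h3 : f.ker.map G.subtype ≤ (sc (p := p) (K := K) (V := V)).range := by
    rintro _ ⟨g, hg, rfl⟩
    obtain ⟨c, hc⟩ := scalar_of_qt H (g := g) hg
    have hc0 : c ≠ 0 := by
      rintro rfl
      obtain ⟨v, hv⟩ := exists_ne H
      apply hv
      have h4 := hc v
      rw [zero_smul] at h4
      exact (g : V ≃ₗ[ZMod p] V).map_eq_zero_iff.1 h4
    exact ⟨Units.mk0 c hc0, LinearEquiv.ext fun v => by rw [sc_apply]; exact (hc v).symm⟩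
  have h4 : Nat.card (sc (p := p) (K := K) (V := V)).range ∣ Nat.card Kˣ := Subgroup.card_range_dvd _
  rw [h2, ← Nat.card_units]
  exact (Subgroup.card_dvd_of_le h3).trans h4


/-- **The numerical conditions.** -/
theorem cp (H : QL p K V G L h) (hp : p ∣ Nat.card G) (hn : ¬ Tr G) : ∃ m, m * h = Nat.card G ∧
    CP (Nat.card (L ⧸ Subgroup.center L)) (Nat.card (MulAut (L ⧸ Subgroup.center L)))
      (Module.finrank K V) (Nat.card K) m h ∧ p ∣ h ∧ ¬ p ∣ m ∧ 0 < m := by
  obtain ⟨v, hv⟩ := exists_ne H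
  haveI : Nontrivial V := ⟨⟨v, 0, hv⟩⟩
  obtain ⟨m, hm, hm0⟩ := exists_m H.half ⟨v, hv⟩
  have h0 : 0 < h := Cfsg.Agent.H19.HT.h_pos H.half hv
  have hph := Cfsg.Agent.H19.HT.p_dvd_h H.half hp
  have hpm := Cfsg.Agent.H19.HT.p_not_dvd_m H.half hm
  refine ⟨m, hm, ⟨?_, ?_, ?_, ?_, ?_, ?_, ?_⟩, hph, hpm, ?_⟩
  · exact ((Fact.out : p.Prime).two_le).trans (Nat.le_of_dvd h0 hph)
  · rw [← card_V H]
    exact dvd_card_sub_one H.half h0 hm
  · rw [← card_V H]
    exact m_lt H.half h0 hm hn
  · rw [hm]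
    exact (card_quot_dvd_L H).trans (card_L_dvd H)
  · rw [hm]
    exact card_G_dvd H
  · rw [← card_V H]
    exact half_le H.half h0 hm
  · rw [← card_V H]
    exact ineq H.half h0 hm
  · exact Nat.pos_of_ne_zero fun hc => hpm (hc ▸ dvd_zero p)

/-! ### `L` as a group of `K`-linear maps -/

/-- `L` acts `K`-linearly -/
def toK (H : QL p K V G L h) : L →* (V ≃ₗ[K] V) where
  toFun l :=
    { toFun := (l : V ≃ₗ[ZMod p] V)
      map_add' := fun v w => map_add _ v w
      map_smul' := fun c v => H.lin l l.2 c v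
      invFun := (l : V ≃ₗ[ZMod p] V).symm
      left_inv := fun v => (l : V ≃ₗ[ZMod p] V).symm_apply_apply v
      right_inv := fun v => (l : V ≃ₗ[ZMod p] V).apply_symm_apply v }
  map_one' := by ext v; rfl
  map_mul' a b := by ext v; rfl

@[simp] theorem toK_apply (H : QL p K V G L h) (l : L) (v : V) :
    toK H l v = (l : V ≃ₗ[ZMod p] V) v := rfl

theorem toK_injective (H : QL p K V G L h) : Function.Injective (toK H) := by
  intro a b hab
  apply Subtype.ext
  ext v
  exact LinearEquiv.congr_fun hab v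

/-- `|L|` divides `|GL_n(K)|` -/
theorem card_L_dvd_gl (H : QL p K V G L h) :
    Nat.card L ∣ ∏ i : Fin (Module.finrank K V), (Nat.card K ^ Module.finrank K V - Nat.card K ^ (i : ℕ)) := by
  classical
  have hK := finiteK H
  have hfd := finiteDim H
  have := Fintype.ofFinite K
  let b := Module.finBasis K V
  let e : (V ≃ₗ[K] V) ≃* Matrix.GeneralLinearGroup (Fin (Module.finrank K V)) K :=
    (LinearMap.GeneralLinearGroup.generalLinearEquiv K V).symm.trans
      (Units.mapEquiv (LinearMap.toMatrixAlgEquiv b).toMulEquiv)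
  have h1 : Nat.card L ∣ Nat.card (Matrix.GeneralLinearGroup (Fin (Module.finrank K V)) K) := by
    have hi : Function.Injective (e.toMonoidHom.comp (toK H)) := e.injective.comp (toK_injective H)
    exact Subgroup.card_dvd_of_injective _ hi
  rwa [Matrix.card_GL_field, ← Nat.card_eq_fintype_card] at h1

/-- elements of `L` have `K`-determinant 1 -/
theorem det_toK (H : QL p K V G L h) (l : L) : LinearEquiv.det (toK H l) = 1 := by
  let f : L →* Kˣ := (LinearEquiv.det).comp (toK H)
  have h1 : f.ker = ⊤ := by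
    rw [eq_top_iff, ← H.perf, commutator_def, Subgroup.commutator_le]
    intro a _ b _
    rw [MonoidHom.mem_ker, map_commutatorElement, commutatorElement_eq_one_iff_mul_comm, mul_comm]
  have h2 : l ∈ f.ker := by rw [h1]; trivial
  exact h2

/-- `2 ≤ dim_K V` -/
theorem two_le_finrank (H : QL p K V G L h) : 2 ≤ Module.finrank K V := by
  have hfd := finiteDim H
  have h0 := finrank_pos H
  by_contra hlt
  have h1 : Module.finrank K V = 1 := by omega
  obtain ⟨a, ha, b, hb, hab⟩ := H.nonab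
  obtain ⟨v, hv, hsp⟩ := finrank_eq_one_iff'.1 h1
  apply hab
  ext x
  have key : ∀ l ∈ L, ∃ c : K, ∀ y : V, l y = c • y := by
    intro l hl
    obtain ⟨c, hc⟩ := hsp (l v)
    refine ⟨c, fun y => ?_⟩
    obtain ⟨d, hd⟩ := hsp y
    rw [← hd, H.lin l hl, ← hc, smul_comm]
  obtain ⟨c, hc⟩ := key a ha
  obtain ⟨d, hd⟩ := key b hb
  change a (b x) = b (a x)
  rw [hd x, hc x, H.lin a ha, H.lin b hb, hc x, hd x, smul_comm]

end QN

end Cfsg.Agent.H192.Ht
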