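import Cfsg.Agent.H19.HT.Asm
import Cfsg.Agent.H192.Ht.QLN
import Cfsg.Agent.H308.AltFive
import Cfsg.Agent.H981.CentAlt5

/-!
# S3512: the row `L / Z(L) = A₅`, `p = 3` (helper192)

* `alt_false`: `A₅` does not act irreducibly on an `𝔽₃`-space with all non-zero vectors in orbits of length prime to 3;
* `sl_case`: if `SL(2,5)` does, then `|V| = 81` and all orbits have length 40;
* `row`: the row.
-/

set_option autoImplicit false
set_option linter.unusedSectionVars false
set_option linter.style.haveILetI false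
set_option linter.style.setOption false

namespace Cfsg.Agent.H192.Ht.AFive

open Cfsg.Agent.H828.HT Cfsg.Agent.H19.HT Cfsg.Agent.H742.HT
open Cfsg.Agent.H960.HT (Irr)
open Cfsg.Agent.H308.AltFive Cfsg.Agent.PermutationGroups.AutSL25

universe u w

/-! ### Submodules with trivial intersection -/

theorem card_mul_le {R : Type*} [Ring R] {V : Type u} [AddCommGroup V] [Module R V] [Finite V]
    {A B U : Submodule R V} (hA : A ≤ U) (hB : B ≤ U) (hd : ∀ v ∈ A, v ∈ B → v = 0) :
    Nat.card A * Nat.card B ≤ Nat.card U := by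
  rw [← Nat.card_prod]
  refine Nat.card_le_card_of_injective (fun x : A × B => (⟨x.1 + x.2, U.add_mem (hA x.1.2) (hB x.2.2)⟩ : U)) ?_
  rintro ⟨a, b⟩ ⟨a', b'⟩ hab
  have h1 : (a : V) + b = a' + b' := congrArg Subtype.val hab
  have h2 : (a : V) - a' = b' - b := by
    rw [sub_eq_sub_iff_add_eq_add, h1, add_comm]
  have h3 := hd _ (A.sub_mem a.2 a'.2) (h2 ▸ B.sub_mem b'.2 b.2)
  have h4 : (b' : V) - b = 0 := by rw [← h2, h3]
  exact Prod.ext (Subtype.ext (sub_eq_zero.1 h3)) (Subtype.ext (sub_eq_zero.1 h4).symm)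

theorem card_fx_mul_cm {p : ℕ} [Fact p.Prime] {V : Type u} [AddCommGroup V] [Module (ZMod p) V] [Finite V]
    (g : V ≃ₗ[ZMod p] V) : Nat.card (fx g) * Nat.card (cm g) = Nat.card V := by
  rw [Submodule.card_eq_card_quotient_mul_card (fx g)]
  congr 1
  exact (Nat.card_congr (LinearMap.quotKerEquivRange
    ((g : V →ₗ[ZMod p] V) - LinearMap.id)).toEquiv).symm

/-! ### Permutations of five points -/

set_option maxRecDepth 100000 in
set_option maxHeartbeats 4000000 in
theorem quad_dec : ∀ c : Fin 5 → ZMod 3, (∀ i j, c i = c j) ∨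
    ∃ i j : Fin 5, c i ≠ c j ∧ ∃ a b : Fin 5, (c a = c b ∧ a ≠ b) ∧ (a ≠ i ∧ a ≠ j) ∧ b ≠ i ∧ b ≠ j := by
  decide +kernel

theorem rel_dec : ∀ c : Fin 5 → ZMod 3, (∀ i j, c i = c j) ∨
    ∃ σ : Equiv.Perm (Fin 5), Equiv.Perm.sign σ = 1 ∧ ∃ i j : Fin 5, i ≠ j ∧ ∃ s : ZMod 3, s ≠ 0 ∧
      ∀ k, c k - c (σ k) = (if k = i then s else 0) - (if k = j then s else 0) := by
  intro c
  rcases quad_dec c with h | ⟨i, j, hij, a, b, ⟨hab, hne⟩, ⟨hai, haj⟩, hbi, hbj⟩
  · exact Or.inl h
  · have hij' : i ≠ j := fun h => hij (by rw [h])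
    refine Or.inr ⟨Equiv.swap i j * Equiv.swap a b, ?_, i, j, hij', c i - c j, sub_ne_zero.2 hij, fun k => ?_⟩
    · rw [map_mul, Equiv.Perm.sign_swap hij', Equiv.Perm.sign_swap hne]; rfl
    · rw [Equiv.Perm.mul_apply]
      by_cases h1 : k = i
      · subst h1
        rw [Equiv.swap_apply_of_ne_of_ne hai.symm hbi.symm, Equiv.swap_apply_left, if_pos rfl, if_neg hij', sub_zero]
      by_cases h2 : k = j
      · subst h2
        rw [Equiv.swap_apply_of_ne_of_ne haj.symm hbj.symm, Equiv.swap_apply_right, if_neg h1, if_pos rfl, zero_sub,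
          neg_sub]
      rw [if_neg h1, if_neg h2, sub_zero]
      by_cases h3 : k = a
      · subst h3
        rw [Equiv.swap_apply_left, Equiv.swap_apply_of_ne_of_ne hbi hbj, hab, sub_self]
      by_cases h4 : k = b
      · subst h4
        rw [Equiv.swap_apply_right, Equiv.swap_apply_of_ne_of_ne hai haj, hab, sub_self]
      rw [Equiv.swap_apply_of_ne_of_ne h3 h4, Equiv.swap_apply_of_ne_of_ne h1 h2, sub_self]

/-- the coefficients of the vector without a fixing element of order 3 -/
def c0 : Fin 5 → ZMod 3 := ![1, 1, 2, 2, 0]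

set_option maxRecDepth 100000 in
theorem c0_dec : ∀ σ : Equiv.Perm (Fin 5), σ ^ 3 = 1 → σ ≠ 1 →
    ∃ i j, c0 i - c0 (σ i) ≠ c0 j - c0 (σ j) := by
  decide +kernel

theorem c0_ne : ¬ ∀ i j, c0 i = c0 j := by decide

/-! ### The alternating group -/

section

variable {V : Type u} [AddCommGroup V] [Module (ZMod 3) V] [Finite V] {L : Subgroup (V ≃ₗ[ZMod 3] V)}

/-- the vectors fixed by `L` -/
theorem no_fixed (hirr : Irr L) (hn : ∃ l ∈ L, l ≠ 1) {v : V} (hv : ∀ l ∈ L, l v = v) : v = 0 := by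
  let W : Submodule (ZMod 3) V := ⨅ l : L, fx (l : V ≃ₗ[ZMod 3] V)
  have hW : ∀ w, w ∈ W ↔ ∀ l ∈ L, l w = w := by
    intro w
    simp [W, Submodule.mem_iInf]
  rcases hirr W (by
    intro g hg w hw
    rw [hW] at hw ⊢
    intro l hl
    rw [hw g hg, hw l hl]) with h | h
  · have : v ∈ W := (hW v).2 hv
    rw [h] at this
    exact (Submodule.mem_bot _).1 this
  · exfalso
    obtain ⟨l, hl, hl1⟩ := hn
    apply hl1
    ext w
    have : w ∈ W := by rw [h]; trivial
    exact (hW w).1 this l hl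

theorem card_stab_mul (v : V) :
    Nat.card (MulAction.orbit L v) * Nat.card (MulAction.stabilizer L v) = Nat.card L := by
  classical
  have := Fintype.ofFinite L
  have h2 := MulAction.card_orbit_mul_card_stabilizer_eq_card_group L v
  rwa [← Nat.card_eq_fintype_card, ← Nat.card_eq_fintype_card, ← Nat.card_eq_fintype_card] at h2

theorem three_dvd (hP : PEx L) (h3 : 3 ∣ Nat.card L) {v : V} (hv : v ≠ 0) :
    3 ∣ Nat.card (MulAction.stabilizer L v) := by
  have h1 := card_stab_mul (L := L) v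
  rw [← h1] at h3
  rcases (Nat.Prime.dvd_mul Nat.prime_three).1 h3 with h | h
  · exact absurd h (hP v hv)
  · exact h

theorem card_fx_conj (g a : V ≃ₗ[ZMod 3] V) : Nat.card (fx (g * a * g⁻¹)) = Nat.card (fx a) := by
  refine (Nat.card_congr (Equiv.ofBijective
    (fun v : fx a => (⟨g v, by
      rw [mem_fx]
      change g (a ((g⁻¹ * g) v)) = g v
      rw [inv_mul_cancel]
      change g (a (v : V)) = g v
      rw [mem_fx.1 v.2]⟩ : fx (g * a * g⁻¹))) ⟨?_, ?_⟩)).symm
  · intro v w hvw
    exact Subtype.ext (g.injective (congrArg Subtype.val hvw))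
  · rintro ⟨w, hw⟩
    rw [mem_fx] at hw
    refine ⟨⟨g⁻¹ w, ?_⟩, Subtype.ext ?_⟩
    · rw [mem_fx]
      apply g.injective
      change (g * a * g⁻¹) w = (g * g⁻¹) w
      rw [hw, mul_inv_cancel]; rfl
    · change (g * g⁻¹) w = w
      rw [mul_inv_cancel]; rfl

variable (e : L ≃* alternatingGroup (Fin 5))

/-- the element of `L` -/
def el (x : alternatingGroup (Fin 5)) : V ≃ₗ[ZMod 3] V := (e.symm x : L)

theorem el_mem (x : alternatingGroup (Fin 5)) : el e x ∈ L := (e.symm x).2

theorem el_mul (x y : alternatingGroup (Fin 5)) : el e (x * y) = el e x * el e y := by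
  simp [el]

theorem el_inv (x : alternatingGroup (Fin 5)) : el e x⁻¹ = (el e x)⁻¹ := by
  simp [el]

theorem el_one : el e 1 = 1 := by simp [el]

theorem el_apply_mul (x y : alternatingGroup (Fin 5)) (v : V) : el e (x * y) v = el e x (el e y v) := by
  rw [el_mul]; rfl

theorem exists_el {l : V ≃ₗ[ZMod 3] V} (hl : l ∈ L) : ∃ x, el e x = l :=
  ⟨e ⟨l, hl⟩, by simp [el]⟩

include e in
theorem card_L : Nat.card L = 60 := by rw [Nat.card_congr e.toEquiv, card_A5]

/-- the stabiliser as a subgroup of `A₅` -/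
def st (v : V) : Subgroup (alternatingGroup (Fin 5)) := (MulAction.stabilizer L v).map (e : L →* _)

theorem mem_st {v : V} {x : alternatingGroup (Fin 5)} : x ∈ st e v ↔ el e x v = v := by
  constructor
  · rintro ⟨l, hl, rfl⟩
    have : el e (e l) = l := by simp [el]
    change el e (e l) v = v
    rw [this]
    exact hl
  · intro h
    exact ⟨e.symm x, h, by simp⟩

theorem card_st (v : V) : Nat.card (st e v) = Nat.card (MulAction.stabilizer L v) :=
  (Nat.card_congr ((MulAction.stabilizer L v).equivMapOfInjective _ e.injective).toEquiv).symm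

theorem index_st (v : V) : (st e v).index = Nat.card (MulAction.orbit L v) := by
  have h1 := (st e v).card_mul_index
  have h2 := card_stab_mul (L := L) v
  rw [card_st, card_A5] at h1
  rw [card_L e, mul_comm, ← h1] at h2
  exact (Nat.eq_of_mul_eq_mul_left Nat.card_pos h2).symm

include e in
theorem exists_ne_one : ∃ l ∈ L, l ≠ 1 := by
  haveI : Nontrivial L := Finite.one_lt_card_iff_nontrivial.1 (by rw [card_L e]; norm_num)
  obtain ⟨l, hl⟩ := exists_ne (1 : L)
  exact ⟨l, l.2, fun h => hl (Subtype.ext h)⟩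

theorem st_ne_top (hirr : Irr L) {v : V} (hv : v ≠ 0) : st e v ≠ ⊤ := by
  intro h
  apply hv
  apply no_fixed hirr (exists_ne_one e)
  intro l hl
  obtain ⟨x, rfl⟩ := exists_el e hl
  exact (mem_st e).1 (by rw [h]; trivial)

theorem index_ge (hirr : Irr L) {v : V} (hv : v ≠ 0) : 5 ≤ (st e v).index := by
  by_contra hlt
  exact st_ne_top e hirr hv (eq_top_of_index (by omega))

theorem three_dvd_st (hP : PEx L) {v : V} (hv : v ≠ 0) : 3 ∣ Nat.card (st e v) := by
  rw [card_st]
  exact three_dvd hP (by rw [card_L e]; norm_num) hv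

/-- elements of order 5 have no fixed vectors -/
theorem five_fpf (hirr : Irr L) (hP : PEx L) {x : alternatingGroup (Fin 5)} (hx5 : x ^ 5 = 1) (hx1 : x ≠ 1) {v : V}
    (hxv : el e x v = v) : v = 0 := by
  by_contra hv
  have h1 := index_ge e hirr hv
  have h2 := three_dvd_st e hP hv
  have h3 : 5 ∣ Nat.card (st e v) := by
    have h4 : orderOf x = 5 := orderOf_eq_prime hx5 hx1
    have h5 : orderOf (⟨x, (mem_st e).2 hxv⟩ : st e v) = 5 := by rw [← Subgroup.orderOf_coe, h4]
    have h6 := orderOf_dvd_natCard (⟨x, (mem_st e).2 hxv⟩ : st e v)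
    rwa [h5] at h6
  have h6 : 15 ∣ Nat.card (st e v) := Nat.Coprime.mul_dvd_of_dvd_of_dvd (by norm_num : Nat.Coprime 3 5) h2 h3
  have h7 := (st e v).card_mul_index
  rw [card_A5] at h7
  have h8 := Nat.le_of_dvd Nat.card_pos h6
  nlinarith

theorem three_eq_zero (v : V) : v + v + v = 0 := by
  have h : (3 : ZMod 3) • v = 0 := by
    rw [show (3 : ZMod 3) = 0 by decide, zero_smul]
  rw [← h, show (3 : ZMod 3) = 1 + 1 + 1 by decide, add_smul, add_smul, one_smul]

theorem mem_cm_of_neg {g : V ≃ₗ[ZMod 3] V} {v : V} (h : g v = -v) : v ∈ cm g := by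
  rw [mem_cm]
  refine ⟨v, ?_⟩
  rw [h]
  exact (eq_neg_of_add_eq_zero_left (three_eq_zero v)).symm

theorem neg_of_mem_cm {g : V ≃ₗ[ZMod 3] V} (hg : ∀ v, g (g v) = v) {v : V} (h : v ∈ cm g) : g v = -v := by
  obtain ⟨w, hw⟩ := mem_cm.1 h
  have h1 : v = g w - w := by rw [hw]; abel
  rw [h1, map_sub, hg]
  abel

theorem sq_el {x : alternatingGroup (Fin 5)} (hx : x * x = 1) (v : V) : el e x (el e x v) = v := by
  rw [← el_apply_mul, hx, el_one]; rfl

theorem card_fx_eq {x y : alternatingGroup (Fin 5)} (hx : x * x = 1) (hx1 : x ≠ 1) (hy : y * y = 1) (hy1 : y ≠ 1) :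
    Nat.card (fx (el e x)) = Nat.card (fx (el e y)) := by
  obtain ⟨g, rfl⟩ := invol_conj x y hx hx1 hy hy1
  rw [el_mul, el_mul, el_inv, card_fx_conj]

/-- `|V| = |C_V(x)|²` for an involution `x` (one half) -/
theorem card_cm_sq (hirr : Irr L) (hP : PEx L) {x : alternatingGroup (Fin 5)} (hx : x * x = 1) (hx1 : x ≠ 1) :
    Nat.card (cm (el e x)) * Nat.card (cm (el e x)) ≤ Nat.card V := by
  obtain ⟨g, h5, h1⟩ := five_prod x hx hx1
  set y := g * x * g⁻¹ with hy
  have hyy : y * y = 1 := by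
    rw [hy]
    calc g * x * g⁻¹ * (g * x * g⁻¹) = g * (x * x) * g⁻¹ := by group
      _ = 1 := by rw [hx]; group
  have hy1 : y ≠ 1 := by
    intro h
    apply hx1
    have : x = g⁻¹ * y * g := by rw [hy]; group
    rw [this, h]; group
  have h2 : Nat.card (cm (el e y)) = Nat.card (cm (el e x)) := by
    have h3 := card_fx_mul_cm (el e x)
    have h4 := card_fx_mul_cm (el e y)
    rw [card_fx_eq e hyy hy1 hx hx1, ← h3] at h4
    exact Nat.eq_of_mul_eq_mul_left Nat.card_pos h4
  have h3 : Nat.card (cm (el e x)) * Nat.card (cm (el e y)) ≤ Nat.card (⊤ : Submodule (ZMod 3) V) := by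
    refine card_mul_le le_top le_top fun v hv hv' => ?_
    refine five_fpf e hirr hP h5 h1 (v := v) ?_
    rw [el_apply_mul, neg_of_mem_cm (sq_el e hyy) hv', map_neg, neg_of_mem_cm (sq_el e hx) hv, neg_neg]
  rw [h2] at h3
  rwa [Nat.card_congr (Submodule.topEquiv (R := ZMod 3) (M := V)).toEquiv] at h3

/-- the four-group -/
def xa : alternatingGroup (Fin 5) := ⟨Equiv.swap 0 1 * Equiv.swap 2 3, mem_iff.2 (by decide)⟩
/-- the four-group -/
def xb : alternatingGroup (Fin 5) := ⟨Equiv.swap 0 2 * Equiv.swap 1 3, mem_iff.2 (by decide)⟩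

theorem xa_sq : xa * xa = 1 := by decide
theorem xb_sq : xb * xb = 1 := by decide
theorem xa_ne : xa ≠ 1 := by decide
theorem xb_ne : xb ≠ 1 := by decide
theorem xab : xa * xb = xb * xa := by decide
theorem xab_ne : xa * xb ≠ 1 := by decide

theorem xab_sq : xa * xb * (xa * xb) = 1 := by decide

/-- a four-group has a non-zero fixed vector -/
theorem exists_fixed [Nontrivial V] (hirr : Irr L) (hP : PEx L) :
    ∃ v : V, v ≠ 0 ∧ el e xa v = v ∧ el e xb v = v := by
  by_contra hcon
  push Not at hcon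
  have key : ∀ v : V, el e xa v = v → el e xb v = v → v = 0 := by
    intro v ha hb
    by_contra hv
    exact hcon v hv ha hb
  have hB : fx (el e xb) ≤ cm (el e xa) := by
    intro v hv
    rw [mem_fx] at hv
    apply mem_cm_of_neg
    have h1 : v + el e xa v = 0 := by
      apply key
      · rw [map_add, sq_el e xa_sq, add_comm]
      · rw [map_add, ← el_apply_mul, ← xab, el_apply_mul, hv]
    exact eq_neg_of_add_eq_zero_right h1
  have hC : fx (el e (xa * xb)) ≤ cm (el e xa) := by
    intro v hv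
    rw [mem_fx, el_apply_mul] at hv
    apply mem_cm_of_neg
    have h2 : el e xb v = el e xa v := by
      have := congrArg (el e xa) hv
      rwa [sq_el e xa_sq] at this
    have h1 : v + el e xa v = 0 := by
      apply key
      · rw [map_add, sq_el e xa_sq, add_comm]
      · rw [map_add, ← h2, sq_el e xb_sq, add_comm]
    exact eq_neg_of_add_eq_zero_right h1
  have h1 : Nat.card (fx (el e xb)) * Nat.card (fx (el e (xa * xb))) ≤ Nat.card (cm (el e xa)) := by
    refine card_mul_le hB hC fun v hv hv' => ?_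
    rw [mem_fx] at hv hv'
    rw [el_apply_mul, hv] at hv'
    exact key v hv' hv
  rw [card_fx_eq e xb_sq xb_ne xa_sq xa_ne, card_fx_eq e xab_sq xab_ne xa_sq xa_ne] at h1
  have h2 := card_fx_mul_cm (el e xa)
  have h3 := card_cm_sq e hirr hP xa_sq xa_ne
  have hV : 1 < Nat.card V := Finite.one_lt_card
  set a := Nat.card (fx (el e xa))
  set b := Nat.card (cm (el e xa))
  have ha : 0 < a := Nat.card_pos
  have hb : 0 < b := Nat.card_pos
  -- a * b = V, b * b ≤ V, a * a ≤ b
  rw [← h2] at h3 hV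
  have h4 : b ≤ a := Nat.le_of_mul_le_mul_right h3 hb
  have h5 : a * a ≤ a * 1 := by omega
  have h6 : a ≤ 1 := Nat.le_of_mul_le_mul_left h5 ha
  have h7 : a = 1 := by omega
  have h8 : b = 1 := by omega
  rw [h7, h8] at hV
  omega

/-- the four-group as a subgroup -/
def E4 : Subgroup (alternatingGroup (Fin 5)) where
  carrier := fun x => x = 1 ∨ x = xa ∨ x = xb ∨ x = xa * xb
  mul_mem' := by
    rintro _ _ (rfl | rfl | rfl | rfl) (rfl | rfl | rfl | rfl) <;>
    · change _ ∨ _ ∨ _ ∨ _
      decide +kernel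
  one_mem' := Or.inl rfl
  inv_mem' := by
    rintro _ (rfl | rfl | rfl | rfl) <;>
    · change _ ∨ _ ∨ _ ∨ _
      decide +kernel

instance : DecidablePred (· ∈ E4) := fun x => inferInstanceAs (Decidable (x = 1 ∨ x = xa ∨ x = xb ∨ x = xa * xb))

theorem card_E4 : Nat.card E4 = 4 := by
  rw [Nat.card_eq_fintype_card]
  decide +kernel

theorem index_five (hirr : Irr L) (hP : PEx L) {v : V} (hv : v ≠ 0) (ha : el e xa v = v) (hb : el e xb v = v) :
    (st e v).index = 5 := by
  have h1 := index_ge e hirr hv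
  have h2 := three_dvd_st e hP hv
  have h3 : Nat.card E4 ∣ Nat.card (st e v) := by
    refine Subgroup.card_dvd_of_le ?_
    rintro x (rfl | rfl | rfl | rfl)
    · exact one_mem _
    · exact (mem_st e).2 ha
    · exact (mem_st e).2 hb
    · rw [mem_st, el_apply_mul, hb, ha]
  rw [card_E4] at h3
  have h6 : 3 * 4 ∣ Nat.card (st e v) := Nat.Coprime.mul_dvd_of_dvd_of_dvd (by norm_num) h2 h3
  have h7 := (st e v).card_mul_index
  rw [card_A5] at h7
  have h8 := Nat.le_of_dvd Nat.card_pos h6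
  nlinarith

include e in
/-- **`A₅` is impossible.** -/
theorem alt_false [Nontrivial V] (hirr : Irr L) (hP : PEx L) : False := by
  classical
  obtain ⟨v, hv, ha, hb⟩ := exists_fixed e hirr hP
  have h5 := index_five e hirr hP hv ha hb
  have hO : Nat.card (MulAction.orbit L v) = 5 := by rw [← index_st e, h5]
  let eO : MulAction.orbit L v ≃ Fin 5 := Finite.equivFinOfCardEq hO
  let ψ : L →* Equiv.Perm (Fin 5) :=
    (eO.permCongrHom.toMonoidHom).comp (MulAction.toPermHom L (MulAction.orbit L v))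
  let φ : alternatingGroup (Fin 5) →* Equiv.Perm (Fin 5) := ψ.comp e.symm.toMonoidHom
  let vv : Fin 5 → V := fun i => (eO.symm i : V)
  have hvv : Function.Injective vv := fun i j hij => eO.symm.injective (Subtype.ext hij)
  have hact : ∀ x i, el e x (vv i) = vv (φ x i) := by
    intro x i
    have h1 : φ x i = eO ((e.symm x) • eO.symm i) := rfl
    change _ = ((eO.symm (φ x i) : MulAction.orbit L v) : V)
    rw [h1, Equiv.symm_apply_apply]
    rfl
  have hinj : Function.Injective φ := by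
    rw [← MonoidHom.ker_eq_bot_iff]
    rcases (inferInstance : φ.ker.Normal).eq_bot_or_eq_top with h | h
    · exact h
    · exfalso
      apply st_ne_top e hirr hv
      rw [eq_top_iff]
      intro x _
      rw [mem_st]
      have h1 : φ x = 1 := by
        rw [← MonoidHom.mem_ker, h]; trivial
      have h2 := hact x (eO ⟨v, MulAction.mem_orbit_self v⟩)
      rw [h1] at h2
      have h3 : vv (eO ⟨v, MulAction.mem_orbit_self v⟩) = v := by
        change ((eO.symm (eO ⟨v, MulAction.mem_orbit_self v⟩) : MulAction.orbit L v) : V) = v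
        rw [Equiv.symm_apply_apply]
      rw [Equiv.Perm.one_apply, h3] at h2
      exact h2
  have hsign : ∀ x, Equiv.Perm.sign (φ x) = 1 := by
    intro x
    let f : alternatingGroup (Fin 5) →* ℤˣ := Equiv.Perm.sign.comp φ
    rcases (inferInstance : f.ker.Normal).eq_bot_or_eq_top with h | h
    · exfalso
      have h1 := Nat.card_le_card_of_injective f (MonoidHom.ker_eq_bot_iff f |>.1 h)
      rw [card_A5, Nat.card_eq_fintype_card] at h1
      have : Fintype.card ℤˣ = 2 := by decide
      omega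
    · have : x ∈ f.ker := by rw [h]; trivial
      exact this
  have hsurj : ∀ σ : Equiv.Perm (Fin 5), Equiv.Perm.sign σ = 1 → ∃ x, φ x = σ := by
    intro σ hσ
    let f : alternatingGroup (Fin 5) → alternatingGroup (Fin 5) := fun x => ⟨φ x, mem_iff.2 (hsign x)⟩
    have hf : Function.Injective f := fun x y hxy => hinj (congrArg Subtype.val hxy)
    obtain ⟨x, hx⟩ := (Finite.injective_iff_surjective.1 hf) ⟨σ, mem_iff.2 hσ⟩
    exact ⟨x, congrArg Subtype.val hx⟩
  have hshift : ∀ (c : Fin 5 → ZMod 3) (x), el e x (∑ k, c k • vv k) = ∑ k, c ((φ x)⁻¹ k) • vv k := by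
    intro c x
    rw [map_sum, ← Equiv.sum_comp (φ x) (fun k => c ((φ x)⁻¹ k) • vv k)]
    refine Finset.sum_congr rfl fun k _ => ?_
    rw [map_smul, hact, show (φ x)⁻¹ (φ x k) = k from (φ x).symm_apply_apply k]
  have hrel : ∀ c : Fin 5 → ZMod 3, ∑ k, c k • vv k = 0 → ∀ i j, c i = c j := by
    intro c hc
    rcases rel_dec c with h | ⟨σ, hσ, i, j, hij, s, hs, hk⟩
    · exact h
    · exfalso
      obtain ⟨x, hx⟩ := hsurj σ⁻¹ (by rw [Equiv.Perm.sign_inv, hσ])
      have h1 := hshift c x
      rw [hc, map_zero, hx, inv_inv] at h1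
      have h2 : ∑ k, (c k - c (σ k)) • vv k = 0 := by
        simp_rw [sub_smul]
        rw [Finset.sum_sub_distrib, hc, ← h1, sub_zero]
      simp_rw [hk, sub_smul, ite_smul, zero_smul] at h2
      rw [Finset.sum_sub_distrib, Finset.sum_ite_eq', Finset.sum_ite_eq', if_pos (Finset.mem_univ _),
        if_pos (Finset.mem_univ _), ← smul_sub] at h2
      rcases smul_eq_zero.1 h2 with h3 | h3
      · exact hs h3
      · exact hij (hvv (sub_eq_zero.1 h3))
  let w : V := ∑ k, c0 k • vv k
  have hw : w ≠ 0 := fun h => c0_ne (hrel c0 h)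
  obtain ⟨⟨x, hxw⟩, hx3⟩ := exists_prime_orderOf_dvd_card' (G := st e w) 3 (three_dvd_st e hP hw)
  rw [← Subgroup.orderOf_coe] at hx3
  change orderOf x = 3 at hx3
  rw [mem_st] at hxw
  have h1 : ∑ k, (c0 k - c0 ((φ x)⁻¹ k)) • vv k = 0 := by
    simp_rw [sub_smul]
    rw [Finset.sum_sub_distrib, ← hshift, sub_eq_zero]
    exact hxw.symm
  obtain ⟨i, j, hij⟩ := c0_dec (φ x)⁻¹ (by
    rw [inv_pow, ← map_pow, ← hx3, pow_orderOf_eq_one, map_one, inv_one]) (by
    intro h
    have h2 : φ x = 1 := inv_eq_one.1 h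
    have h3 : x = 1 := hinj (by rw [h2, map_one])
    rw [h3, orderOf_one] at hx3
    omega)
  exact hij (hrel _ h1 i j)

end

/-! ### `SL(2,5)` -/

/-- an element of order three -/
def R3 : SL25 := ⟨!![0, 1; -1, -1], by decide⟩

set_option maxRecDepth 100000 in
set_option maxHeartbeats 4000000 in
theorem conj_R3 : ∀ x : SL25, x * x * x = 1 → x ≠ 1 → ∃ g : SL25, g * x = R3 * g := by decide +kernel

set_option maxRecDepth 100000 in
set_option maxHeartbeats 4000000 in
theorem card_T3 : Fintype.card {x : SL25 // x * x * x = 1 ∧ x ≠ 1} = 20 := by decide +kernel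

theorem num {N c : ℕ} (hN : 1 ≤ N) (hcN : c ≤ N) (h : 10 * (3 ^ c - 1) = 3 ^ N - 1) : 3 ^ N = 81 := by
  have h0 : 1 ≤ 3 ^ N := Nat.one_le_pow _ _ (by norm_num)
  have h1 : 1 ≤ 3 ^ c := Nat.one_le_pow _ _ (by norm_num)
  have h2 : 10 * 3 ^ c = 3 ^ N + 9 := by omega
  rcases Nat.lt_or_ge c 3 with hc | hc
  · interval_cases c
    · have h3 : 3 ^ 1 ≤ 3 ^ N := Nat.pow_le_pow_right (by norm_num) hN
      omega
    · have h3 : 3 ^ N = 21 := by omega
      rcases Nat.lt_or_ge N 3 with hN3 | hN3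
      · interval_cases N <;> omega
      · have h4 : 3 ^ 3 ≤ 3 ^ N := Nat.pow_le_pow_right (by norm_num) hN3
        omega
    · omega
  · obtain ⟨c, rfl⟩ : ∃ c', c = c' + 3 := ⟨c - 3, by omega⟩
    obtain ⟨N, rfl⟩ : ∃ N', N = N' + 3 := ⟨N - 3, by omega⟩
    rw [pow_add, pow_add] at h2
    omega

section

variable {V : Type u} [AddCommGroup V] [Module (ZMod 3) V] [Finite V] {L : Subgroup (V ≃ₗ[ZMod 3] V)}

/-- central elements with non-zero fixed vectors are trivial -/
theorem central_fixed (hirr : Irr L) {z : L} (hz : z ∈ Subgroup.center L) {v : V} (hv : v ≠ 0)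
    (hzv : (z : V ≃ₗ[ZMod 3] V) v = v) : z = 1 := by
  have hc := Subgroup.mem_center_iff.1 hz
  rcases hirr (fx (z : V ≃ₗ[ZMod 3] V)) (by
    intro g hg w hw
    rw [mem_fx] at hw ⊢
    have h1 : ((z * ⟨g, hg⟩ : L) : V ≃ₗ[ZMod 3] V) w = ((⟨g, hg⟩ * z : L) : V ≃ₗ[ZMod 3] V) w := by
      rw [hc ⟨g, hg⟩]
    change (z : V ≃ₗ[ZMod 3] V) (g w) = g ((z : V ≃ₗ[ZMod 3] V) w) at h1
    rw [h1, hw]) with h | h
  · exact absurd ((Submodule.mem_bot _).1 (h ▸ mem_fx.2 hzv)) hv
  · apply Subtype.ext
    ext w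
    have : w ∈ fx (z : V ≃ₗ[ZMod 3] V) := by rw [h]; trivial
    exact mem_fx.1 this

/-- `|V| = 81`, orbits of length 40 -/
theorem sl_case [Nontrivial V] (hirr : Irr L) (hP : PEx L) (e : L ≃* SL25)
    (e' : L ⧸ Subgroup.center L ≃* alternatingGroup (Fin 5)) :
    Nat.card V = 81 ∧ ∀ v : V, v ≠ 0 → Nat.card (MulAction.orbit L v) = 40 := by
  classical
  have hL : Nat.card L = 120 := by rw [Nat.card_congr e.toEquiv, natCard]
  have hst : ∀ v : V, v ≠ 0 → Nat.card (MulAction.stabilizer L v) = 3 := by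
    intro v hv
    set S := MulAction.stabilizer L v with hS
    have h3 : 3 ∣ Nat.card S := three_dvd hP (by rw [hL]; norm_num) hv
    have h2 : ¬ 2 ∣ Nat.card S := by
      intro hd
      obtain ⟨⟨s, hs⟩, hs2⟩ := exists_prime_orderOf_dvd_card' (G := S) 2 hd
      rw [← Subgroup.orderOf_coe] at hs2
      change orderOf s = 2 at hs2
      have hs1 : e s ≠ 1 := by
        intro h
        rw [(MulEquiv.map_eq_one_iff e).1 h, orderOf_one] at hs2
        omega
      have hss : e s * e s = 1 := by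
        have h4 := pow_orderOf_eq_one s
        rw [hs2, pow_two] at h4
        rw [← map_mul, h4, map_one]
      have h4 := eq_neg_one (e s) hss hs1
      have h5 : s ∈ Subgroup.center L := by
        rw [Subgroup.mem_center_iff]
        intro g
        apply e.injective
        rw [map_mul, map_mul, h4, mul_neg, neg_mul, mul_one, one_mul]
      have h6 := central_fixed hirr h5 hv hs
      exact hs1 (by rw [h6, map_one])
    have hd : Nat.card S ∣ 120 := hL ▸ Subgroup.card_subgroup_dvd_card S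
    have hd15 : Nat.card S ∣ 15 := by
      have h4 : Nat.Coprime (Nat.card S) (2 ^ 3) :=
        Nat.Coprime.pow_right 3 ((Nat.coprime_comm.1 ((Nat.Prime.coprime_iff_not_dvd Nat.prime_two).2 h2)))
      exact h4.dvd_of_dvd_mul_left (hd.trans (by norm_num))
    have h5 : ¬ 5 ∣ Nat.card S := by
      intro h5
      have h15 : Nat.card S = 15 :=
        Nat.dvd_antisymm hd15 (Nat.Coprime.mul_dvd_of_dvd_of_dvd (by norm_num : Nat.Coprime 3 5) h3 h5)
      let π : L →* alternatingGroup (Fin 5) := e'.toMonoidHom.comp (QuotientGroup.mk' (Subgroup.center L))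
      have hinj : Function.Injective (π.comp S.subtype) := by
        rw [injective_iff_map_eq_one]
        rintro ⟨s, hs⟩ h6
        have h7 : (QuotientGroup.mk' (Subgroup.center L)) s = 1 := (MulEquiv.map_eq_one_iff e').1 h6
        have h8 : s ∈ Subgroup.center L := (QuotientGroup.eq_one_iff s).1 h7
        exact Subtype.ext (central_fixed hirr h8 hv hs)
      have h6 : Nat.card (π.comp S.subtype).range = 15 := by
        rw [← h15]
        exact (Nat.card_congr (MonoidHom.ofInjective hinj).toEquiv).symm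
      have h7 := (π.comp S.subtype).range.card_mul_index
      rw [h6, card_A5] at h7
      have h8 := eq_top_of_index (H := (π.comp S.subtype).range) (by omega)
      rw [h8, Subgroup.index_top] at h7
      omega
    have h9 : Nat.card S ∣ 3 := by
      have h4 : Nat.Coprime (Nat.card S) 5 :=
        Nat.coprime_comm.1 ((Nat.Prime.coprime_iff_not_dvd Nat.prime_five).2 h5)
      exact h4.dvd_of_dvd_mul_left (hd15.trans (by norm_num))
    exact Nat.dvd_antisymm h9 h3
  refine ⟨?_, ?_⟩
  swap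
  · intro v hv
    have h1 := card_stab_mul (L := L) v
    rw [hst v hv, hL] at h1
    omega
  -- double counting
  haveI := Fintype.ofFinite L
  haveI := Fintype.ofFinite V
  let T : Finset L := Finset.univ.filter fun x => x * x * x = 1 ∧ x ≠ 1
  have hT : T.card = 20 := by
    rw [← card_T3, ← Fintype.card_subtype]
    refine Fintype.card_congr (e.toEquiv.subtypeEquiv fun x : L => ?_)
    constructor
    · rintro ⟨h1, h2⟩
      refine ⟨?_, fun h => h2 ((MulEquiv.map_eq_one_iff e).1 h)⟩
      change e x * e x * e x = 1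
      rw [← map_mul, ← map_mul, h1, map_one]
    · rintro ⟨h1, h2⟩
      refine ⟨?_, fun h => h2 (by rw [h]; exact map_one e)⟩
      apply e.injective
      rw [map_mul, map_mul, map_one]
      exact h1
  have hfx : ∀ x ∈ T, Nat.card (fx (x : V ≃ₗ[ZMod 3] V)) =
      Nat.card (fx ((e.symm R3 : L) : V ≃ₗ[ZMod 3] V)) := by
    intro x hx
    obtain ⟨h1, h2⟩ := (Finset.mem_filter.1 hx).2
    obtain ⟨g, hg⟩ := conj_R3 (e x) (by rw [← map_mul, ← map_mul, h1, map_one])
      (fun h => h2 ((MulEquiv.map_eq_one_iff e).1 h))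
    have h3 : e.symm R3 = e.symm g * x * (e.symm g)⁻¹ := by
      apply e.injective
      rw [map_mul, map_mul, map_inv, MulEquiv.apply_symm_apply, MulEquiv.apply_symm_apply, hg, mul_inv_cancel_right]
    rw [h3]
    exact (card_fx_conj _ _).symm
  have hcount : ∀ v : V, v ≠ 0 → (T.filter fun x : L => (x : V ≃ₗ[ZMod 3] V) v = v).card = 2 := by
    intro v hv
    have h1 := hst v hv
    have h2 : (Finset.univ.filter fun x : L => (x : V ≃ₗ[ZMod 3] V) v = v).card =
        Nat.card (MulAction.stabilizer L v) := by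
      rw [Nat.card_eq_fintype_card, ← Fintype.card_subtype]
      exact Fintype.card_congr (Equiv.subtypeEquivRight fun x => Iff.rfl)
    rw [h1] at h2
    have h3 : (T.filter fun x : L => (x : V ≃ₗ[ZMod 3] V) v = v) =
        (Finset.univ.filter fun x : L => (x : V ≃ₗ[ZMod 3] V) v = v).erase 1 := by
      ext x
      simp only [T, Finset.mem_filter, Finset.mem_univ, true_and, Finset.mem_erase]
      constructor
      · rintro ⟨⟨-, h⟩, h'⟩
        exact ⟨h, h'⟩
      · rintro ⟨h, h'⟩
        refine ⟨⟨?_, h⟩, h'⟩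
        have h4 : (⟨x, h'⟩ : MulAction.stabilizer L v) ^ Nat.card (MulAction.stabilizer L v) = 1 :=
          pow_card_eq_one'
        rw [h1] at h4
        have h5 := congrArg Subtype.val h4
        change x ^ 3 = 1 at h5
        rw [← h5, pow_succ, pow_two]
    rw [h3, Finset.card_erase_of_mem (by simp), h2]
  have hsum : ∑ x ∈ T, (Nat.card (fx (x : V ≃ₗ[ZMod 3] V)) - 1) = ∑ _v ∈ (Finset.univ.erase (0 : V)), 2 := by
    have h1 : ∀ g : L, Nat.card (fx (g : V ≃ₗ[ZMod 3] V)) - 1 =
        ∑ v ∈ Finset.univ.erase (0 : V), if (g : V ≃ₗ[ZMod 3] V) v = v then 1 else 0 := by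
      intro g
      rw [Finset.sum_boole, Nat.cast_id, Nat.card_eq_fintype_card, Fintype.card_subtype]
      rw [← Finset.card_erase_of_mem (a := (0 : V)) (by simp)]
      congr 1
      ext v
      simp only [Finset.mem_erase, Finset.mem_filter, Finset.mem_univ, true_and, mem_fx, and_comm]
    simp_rw [h1]
    rw [Finset.sum_comm]
    refine Finset.sum_congr rfl fun v hv => ?_
    rw [← Finset.card_filter]
    exact hcount v (Finset.ne_of_mem_erase hv)
  rw [Finset.sum_congr rfl (fun x hx => by rw [hfx x hx]), Finset.sum_const, Finset.sum_const, hT,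
    Finset.card_erase_of_mem (Finset.mem_univ _), Finset.card_univ, ← Nat.card_eq_fintype_card, smul_eq_mul,
    smul_eq_mul] at hsum
  have hV : Nat.card V = 3 ^ Module.finrank (ZMod 3) V := card_eq_pow (p := 3) V
  have hF : Nat.card (fx ((e.symm R3 : L) : V ≃ₗ[ZMod 3] V)) =
      3 ^ Module.finrank (ZMod 3) (fx ((e.symm R3 : L) : V ≃ₗ[ZMod 3] V)) := card_eq_pow (p := 3) _
  rw [hV]
  rw [hF, hV] at hsum
  refine num ?_ (Submodule.finrank_le _) (c := Module.finrank (ZMod 3) (fx ((e.symm R3 : L) : V ≃ₗ[ZMod 3] V))) (by omega)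
  exact Module.finrank_pos

end

/-- **The row `A₅`, `p = 3`.** -/
theorem row {K : Type w} [Field K] {V : Type u} [AddCommGroup V] [Module (ZMod 3) V] [Finite V] [Module K V]
    {G L : Subgroup (V ≃ₗ[ZMod 3] V)} {h : ℕ} (H : QSP 3 K V G L h)
    (e : L ⧸ Subgroup.center L ≃* alternatingGroup (Fin 5)) : Tra G ∨ Exc G := by
  classical
  have hh := H.half
  have hne : ∃ v : V, v ≠ 0 := by
    obtain ⟨a, -, b, -, hab⟩ := H.nonab
    by_contra hcon
    push Not at hcon
    exact hab (LinearEquiv.ext fun v => by rw [hcon ((a * b) v), hcon ((b * a) v)])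
  obtain ⟨v₀, hv₀⟩ := hne
  haveI : Nontrivial V := ⟨⟨v₀, 0, hv₀⟩⟩
  have hirr : Irr L := H.irr
  have hP : PEx L := pex_of_normal hh H.le H.nrm
  rcases Cfsg.Agent.H981.CentAlt5.alt5 H.perf e with h1 | ⟨⟨e'⟩⟩
  · exfalso
    let e2 : L ≃* alternatingGroup (Fin 5) :=
      (QuotientGroup.quotientBot (G := L)).symm.trans ((QuotientGroup.quotientMulEquivOfEq h1.symm).trans e)
    exact alt_false e2 hirr hP
  · obtain ⟨hV, ho⟩ := sl_case hirr hP e' e
    have h0 : 0 < h := by have := H.two_le; omega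
    obtain ⟨m, hm, hm0⟩ := exists_m hh ⟨v₀, hv₀⟩
    have h40 : 40 ∣ m := by
      rw [← ho v₀ hv₀]
      exact orbit_normal_dvd_m hh h0 hm L H.le H.nrm hv₀
    have h80 : m ∣ 80 := by
      have := dvd_card_sub_one hh h0 hm
      rwa [hV] at this
    have hcases : m = 40 ∨ m = 80 := by
      obtain ⟨k, rfl⟩ := h40
      have h2 : 40 * k ≤ 80 := Nat.le_of_dvd (by norm_num) h80
      omega
    have horb : ∀ v : V, v ≠ 0 → (MulAction.orbit G v).ncard = m := by
      intro v hv
      rw [← Nat.card_coe_set_eq]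
      exact orbit_card hh h0 hm hv
    have h0n : ∀ v : V, v ≠ 0 → MulAction.orbit G v ⊆ {x : V | x ≠ 0} := by
      rintro v hv _ ⟨g, rfl⟩ hz
      exact hv ((g : V ≃ₗ[ZMod 3] V).map_eq_zero_iff.1 hz)
    have hnz : ({x : V | x ≠ 0} : Set V).ncard = 80 := by
      have h3 : {x : V | x ≠ 0} = {(0 : V)}ᶜ := by ext; simp
      rw [h3]
      have := Set.ncard_add_ncard_compl {(0 : V)}
      rw [Set.ncard_singleton, hV] at this
      omega
    rcases hcases with hm' | hm'
    · -- `m = 40`
      right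
      subst hm'
      have hset : ∀ v : V, {u : V | ∃ g ∈ G, g v = u} = MulAction.orbit G v := by
        intro v
        ext u
        constructor
        · rintro ⟨g, hg, rfl⟩
          exact ⟨⟨g, hg⟩, rfl⟩
        · rintro ⟨g, rfl⟩
          exact ⟨g, g.2, rfl⟩
      refine ⟨rfl, hV, ⟨L, H.le, H.nrm, ⟨e'⟩⟩, ?_, ?_⟩
      swap
      · intro v hv
        rw [hset, Nat.card_coe_set_eq]
        exact horb v hv
      obtain ⟨w₀, hw₀, hw₁⟩ : ∃ w : V, w ≠ 0 ∧ w ∉ MulAction.orbit G v₀ := by
        by_contra hcon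
        push Not at hcon
        have h1 := Set.ncard_le_ncard (s := {x : V | x ≠ 0}) (t := MulAction.orbit G v₀)
          (fun x hx => hcon x hx) (Set.toFinite _)
        rw [hnz, horb v₀ hv₀] at h1
        omega
      refine ⟨v₀, w₀, hv₀, hw₀, ?_, ?_⟩
      · rintro ⟨g, hg, hgv⟩
        exact hw₁ ⟨⟨g, hg⟩, hgv⟩
      · intro u hu
        have hd : Disjoint (MulAction.orbit G v₀) (MulAction.orbit G w₀) := by
          rw [Set.disjoint_left]
          intro x hx hx'
          apply hw₁
          rw [← MulAction.orbit_eq_iff] at hx hx' ⊢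
          rw [← hx', hx]
        have h1 : MulAction.orbit G v₀ ∪ MulAction.orbit G w₀ = {x : V | x ≠ 0} := by
          refine Set.eq_of_subset_of_ncard_le (Set.union_subset (h0n v₀ hv₀) (h0n w₀ hw₀)) ?_ (Set.toFinite _)
          rw [Set.ncard_union_eq hd (Set.toFinite _) (Set.toFinite _), horb v₀ hv₀, horb w₀ hw₀, hnz]
        have h2 : u ∈ MulAction.orbit G v₀ ∪ MulAction.orbit G w₀ := by rw [h1]; exact hu
        rcases h2 with ⟨g, hg⟩ | ⟨g, hg⟩
        · exact ⟨g, g.2, Or.inl hg⟩
        · exact ⟨g, g.2, Or.inr hg⟩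
    · -- `m = 80`
      left
      subst hm'
      intro v w hv hw
      have h1 : MulAction.orbit G v = {x : V | x ≠ 0} := by
        refine Set.eq_of_subset_of_ncard_le (h0n v hv) ?_ (Set.toFinite _)
        rw [hnz, horb v hv]
      have h2 : w ∈ MulAction.orbit G v := by rw [h1]; exact hw
      obtain ⟨g, hg⟩ := h2
      exact ⟨g, g.2, hg⟩

end Cfsg.Agent.H192.Ht.AFive
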