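import Cfsg.Agent.H192.Ht.LiftT
import Cfsg.Agent.H333.QS6.Data
import Cfsg.Agent.H391.HT.Tool
import Cfsg.Agent.H192.Ht.AFive
import Cfsg.Agent.H742.HT.Fus
import Cfsg.Agent.H952.F4.Eig

/-!
# S3512: the row `A₇` (helper192)
-/

set_option autoImplicit false
set_option linter.unusedSectionVars false
set_option linter.style.haveILetI false
set_option maxRecDepth 100000

universe u v w

namespace Cfsg.Agent.H192.Ht.ASeven

open Module Cfsg.Agent.H952.F4 Cfsg.Agent.H333.QS6.Rep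
open Cfsg.Agent.H828.HT hiding ev
open Cfsg.Agent.H742.HT Cfsg.Agent.H742.HT.Fus Cfsg.Agent.H333.QS6 Cfsg.Agent.H192.Ht

/-- even permutations of seven points -/
abbrev A7 : Type := alternatingGroup (Fin 7)

/-- an even permutation -/
def mk (σ : Equiv.Perm (Fin 7)) (h : Equiv.Perm.sign σ = 1) : A7 := ⟨σ, Equiv.Perm.mem_alternatingGroup.2 h⟩

def x7 : A7 := mk c[0, 1, 2, 3, 4, 5, 6] (by decide +kernel)
def y3 : A7 := mk (c[1, 2, 4] * c[3, 6, 5]) (by decide +kernel)
def x5 : A7 := mk c[0, 1, 2, 3, 4] (by decide +kernel)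
def y4 : A7 := mk (c[1, 2, 4, 3] * c[5, 6]) (by decide +kernel)
def u5 : A7 := mk c[2, 3, 4, 5, 6] (by decide +kernel)
def z3 : A7 := mk c[0, 1, 2] (by decide +kernel)
def w3 : A7 := mk c[3, 4, 5] (by decide +kernel)

theorem x7_pow : x7 ^ 7 = 1 := Subtype.ext (by decide +kernel)
theorem x7_ne : x7 ≠ 1 := fun h => absurd (congrArg Subtype.val h) (by decide +kernel)
theorem x7_rel : y3 * x7 * y3⁻¹ = x7 ^ 2 := Subtype.ext (by decide +kernel)
theorem x5_pow : x5 ^ 5 = 1 := Subtype.ext (by decide +kernel)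
theorem x5_ne : x5 ≠ 1 := fun h => absurd (congrArg Subtype.val h) (by decide +kernel)
theorem x5_rel : y4 * x5 * y4⁻¹ = x5 ^ 2 := Subtype.ext (by decide +kernel)
theorem u5_pow : u5 ^ 5 = 1 := Subtype.ext (by decide +kernel)
theorem u5_ne : u5 ≠ 1 := fun h => absurd (congrArg Subtype.val h) (by decide +kernel)
theorem xu_pow : (x5 * u5) ^ 7 = 1 := Subtype.ext (by decide +kernel)
theorem xu_ne : x5 * u5 ≠ 1 := fun h => absurd (congrArg Subtype.val h) (by decide +kernel)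
theorem z3_pow : z3 ^ 3 = 1 := Subtype.ext (by decide +kernel)
theorem z3_ne : z3 ≠ 1 := fun h => absurd (congrArg Subtype.val h) (by decide +kernel)
theorem w3_pow : w3 ^ 3 = 1 := Subtype.ext (by decide +kernel)
theorem zw_comm : z3 * w3 = w3 * z3 := Subtype.ext (by decide +kernel)
theorem w3_not_mem : w3 ∉ Subgroup.zpowers z3 := by
  intro h
  obtain ⟨k, hk⟩ := Subgroup.mem_zpowers_iff.1 h
  have h1 : z3 ^ (k % 3) = w3 := by
    rw [← hk]
    conv_rhs => rw [← Int.emod_add_mul_ediv k 3, zpow_add, zpow_mul]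
    have : z3 ^ (3 : ℤ) = 1 := by exact_mod_cast z3_pow
    rw [this, one_zpow, mul_one]
  have h2 : k % 3 = 0 ∨ k % 3 = 1 ∨ k % 3 = 2 := by omega
  rcases h2 with h2 | h2 | h2 <;> rw [h2] at h1 <;> exact absurd (congrArg Subtype.val h1) (by decide +kernel)

variable {p : ℕ} [Fact p.Prime] {K : Type w} [Field K] {V : Type u} [AddCommGroup V] [Module (ZMod p) V] [Finite V]
    [Module K V] {G L : Subgroup (V ≃ₗ[ZMod p] V)} {h : ℕ}

section basic

variable (H : QL p K V G L h) (e : (L ⧸ Subgroup.center L) ≃* A7)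

include e in
theorem card_T : Nat.card (L ⧸ Subgroup.center L) = 2520 ∧ Nat.card (MulAut (L ⧸ Subgroup.center L)) = 5040 :=
  ⟨(Data.a7 e).1, (Data.a7 e).2.1⟩

include H e in
theorem three_dvd_h : 3 ∣ h := by
  have := finite_L (L := L)
  have : Fact (Nat.Prime 3) := ⟨Nat.prime_three⟩
  exact dvd_h_of_noncyclic H.half H.le (QN.exists_ne H) (by norm_num) (pr e) (pr_surjective e)
    (noncyclic_three zw_comm z3_pow w3_pow z3_ne w3_not_mem)

include H e in
theorem nd5 : ¬ 5 ∣ Nat.card (Subgroup.center L) := by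
  have := finite_L (L := L)
  have : Fact (Nat.Prime 5) := ⟨Nat.prime_five⟩
  refine not_dvd_center_pr e H.perf ?_
  rw [← Nat.card_congr e.toEquiv, (card_T e).1]
  decide

include H e in
theorem nd7 : ¬ 7 ∣ Nat.card (Subgroup.center L) := by
  have := finite_L (L := L)
  have : Fact (Nat.Prime 7) := ⟨by norm_num⟩
  refine not_dvd_center_pr e H.perf ?_
  rw [← Nat.card_congr e.toEquiv, (card_T e).1]
  decide

include H e in
theorem seven_three : ∃ z y : L, z ≠ 1 ∧ z ^ 7 = 1 ∧ y * z * y⁻¹ = z ^ 2 := by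
  have := finite_L (L := L)
  obtain ⟨z, hz, hz1⟩ := pr_lift e (by norm_num) (nd7 H e) x7_pow
  obtain ⟨y, hy⟩ := pr_surjective e y3
  refine ⟨z, y, ?_, hz, pr_rel e (by norm_num) (nd7 H e) hz (by rw [hy, hz1]; exact x7_rel)⟩
  rintro rfl
  exact x7_ne (by rw [← hz1, map_one])

include H e in
theorem five_four : ∃ z y : L, z ≠ 1 ∧ z ^ 5 = 1 ∧ y * z * y⁻¹ = z ^ 2 := by
  have := finite_L (L := L)
  obtain ⟨z, hz, hz1⟩ := pr_lift e (by norm_num) (nd5 H e) x5_pow
  obtain ⟨y, hy⟩ := pr_surjective e y4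
  refine ⟨z, y, ?_, hz, pr_rel e (by norm_num) (nd5 H e) hz (by rw [hy, hz1]; exact x5_rel)⟩
  rintro rfl
  exact x5_ne (by rw [← hz1, map_one])

theorem ord7 : orderOf ((2 : ℕ) : ZMod 7) = 3 := by
  have : Fact (Nat.Prime 3) := ⟨Nat.prime_three⟩
  exact orderOf_eq_prime (by decide) (by decide)

theorem ord5 : orderOf ((2 : ℕ) : ZMod 5) = 4 := by
  have : Fact (Nat.Prime 2) := ⟨Nat.prime_two⟩
  exact orderOf_eq_prime_pow (p := 2) (n := 1) (by decide) (by decide)

include H e in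
theorem three_le (hp7 : p ≠ 7) : 3 ≤ finrank K V := by
  obtain ⟨z, y, hz1, hz, hyz⟩ := seven_three H e
  exact le_finrank H (by norm_num) (Ne.symm hp7) hz hz1 hyz ord7 (by norm_num)

include H e in
theorem four_le (hp5 : p ≠ 5) : 4 ≤ finrank K V := by
  obtain ⟨z, y, hz1, hz, hyz⟩ := five_four H e
  exact le_finrank H (by norm_num) (Ne.symm hp5) hz hz1 hyz ord5 (by norm_num)

include H e in
theorem kill7 (hp7 : p ≠ 7) (h7 : ¬ 7 ∣ h) : 3 ∣ finrank K V := by
  obtain ⟨z, y, hz1, hz, hyz⟩ := seven_three H e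
  have : Fact (Nat.Prime 7) := ⟨by norm_num⟩
  refine dvd_finrank H (by norm_num) (Ne.symm hp7) hz (fun v hv => ?_) hyz ord7 (by norm_num)
  exact fpf_of_not_dvd H.half h7 (H.le z.2) (congrArg Subtype.val hz) (fun h2 => hz1 (Subtype.ext h2)) hv

include H e in
theorem kill5 (hp5 : p ≠ 5) (h5 : ¬ 5 ∣ h) : 4 ∣ finrank K V := by
  obtain ⟨z, y, hz1, hz, hyz⟩ := five_four H e
  have : Fact (Nat.Prime 5) := ⟨by norm_num⟩
  refine dvd_finrank H (by norm_num) (Ne.symm hp5) hz (fun v hv => ?_) hyz ord5 (by norm_num)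
  exact fpf_of_not_dvd H.half h5 (H.le z.2) (congrArg Subtype.val hz) (fun h2 => hz1 (Subtype.ext h2)) hv

end basic

/-! ### `p = 5`, `n = 3`, `q = 25` -/

theorem p5 (H : QL p K V G L h) (e : (L ⧸ Subgroup.center L) ≃* A7) (h0 : 0 < h) {m : ℕ} (hm : m * h = Nat.card G)
    (hn : finrank K V = 3) (hq : Nat.card K = 25) (hm' : m = 504) (h7 : ¬ 7 ∣ h) : False := by
  have := finite_L (L := L)
  have hfK := QN.finiteK H
  have f7 : Fact (Nat.Prime 7) := ⟨by norm_num⟩
  obtain ⟨a, ha, ha1⟩ := pr_lift e (by norm_num) (nd5 H e) x5_pow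
  obtain ⟨b, hb, hb1⟩ := pr_lift e (by norm_num) (nd5 H e) u5_pow
  have hV : Nat.card V = 15625 := by rw [QN.card_V H, hn, hq]; norm_num
  have key : ∀ x : L, x ^ 5 = 1 → 125 ≤ Nat.card (fx (x : V ≃ₗ[ZMod p] V)) := by
    intro x hx
    have h1 := fus_fx H.half h0 hm (i := 31) (by rw [hm', hV]) (s := 5) (by norm_num) (H.le x.2) (k := 1)
      (by rw [pow_one]; exact congrArg Subtype.val hx)
    rw [hm'] at h1
    omega
  have key2 : ∀ x : L, x ^ 5 = 1 → 625 ≤ Nat.card (fx (x : V ≃ₗ[ZMod p] V)) := by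
    intro x hx
    have h1 := key x hx
    rw [card_fx_eq_fd H.lin x, hq] at h1 ⊢
    have h2 : 2 ≤ fd H.lin x := by
      by_contra hlt
      have : fd H.lin x = 0 ∨ fd H.lin x = 1 := by omega
      rcases this with h3 | h3 <;> rw [h3] at h1 <;> omega
    calc 625 = 25 ^ 2 := by norm_num
      _ ≤ _ := Nat.pow_le_pow_right (by norm_num) h2
  have h3 := AFive.card_mul_le (A := fx (a : V ≃ₗ[ZMod p] V)) (B := fx (b : V ≃ₗ[ZMod p] V)) (U := ⊤) le_top le_top (by
    intro v h1 h2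
    by_contra hv
    rw [mem_fx] at h1 h2
    have h4 : ((a * b : L) : V ≃ₗ[ZMod p] V) v = v := by
      change (a : V ≃ₗ[ZMod p] V) ((b : V ≃ₗ[ZMod p] V) v) = v
      rw [h2, h1]
    have h5 := eq_one_of_fix H h7 (x := a * b) (by
      rw [← pr_eq_one e, map_pow, map_mul, ha1, hb1]
      exact xu_pow) hv h4
    have h6 := congrArg (pr e) h5
    rw [map_mul, ha1, hb1, map_one] at h6
    exact xu_ne h6)
  have h4 : Nat.card (⊤ : Submodule (ZMod p) V) = Nat.card V := Nat.card_congr Submodule.topEquiv.toEquiv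
  rw [h4, hV] at h3
  have h5 := Nat.mul_le_mul (key2 a ha) (key2 b hb)
  omega

/-! ### `p = 2`, `n = 6`, `q = 2` -/

def g1 : A7 := mk ⟨![3, 4, 5, 1, 0, 2, 6], ![4, 3, 5, 0, 1, 2, 6], by decide, by decide⟩ (by decide +kernel)
def g2 : A7 := mk (c[4, 5] * (c[0, 3] * c[1, 4] * c[2, 5])) (by decide +kernel)
def inv3 : A7 := mk (c[0, 1] * c[3, 4]) (by decide +kernel)

theorem g1_rel : g1 * z3 * g1⁻¹ = w3 := Subtype.ext (by decide +kernel)
theorem g2_rel : g2 * (z3 * w3) * g2⁻¹ = z3 * (w3 * w3) := Subtype.ext (by decide +kernel)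
theorem inv_z : inv3 * z3 * inv3⁻¹ = z3 ^ 2 := Subtype.ext (by decide +kernel)
theorem inv_w : inv3 * w3 * inv3⁻¹ = w3 ^ 2 := Subtype.ext (by decide +kernel)
theorem inv_zw : inv3 * (z3 * w3) * inv3⁻¹ = (z3 * w3) ^ 2 := Subtype.ext (by decide +kernel)
theorem inv_zww : inv3 * (z3 * (w3 * w3)) * inv3⁻¹ = (z3 * (w3 * w3)) ^ 2 := Subtype.ext (by decide +kernel)

theorem ord3 : orderOf ((2 : ℕ) : ZMod 3) = 2 := by
  have : Fact (Nat.Prime 2) := ⟨Nat.prime_two⟩
  exact orderOf_eq_prime (by decide) (by decide)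

/-- commuting elements of order three over `z3`, `w3` -/
theorem exists_zw (_ : QL p K V G L h) (e : (L ⧸ Subgroup.center L) ≃* A7) (h3 : ¬ 3 ∣ Nat.card (Subgroup.center L)) :
    ∃ z w : L, z ^ 3 = 1 ∧ w ^ 3 = 1 ∧ z * w = w * z ∧ pr e z = z3 ∧ pr e w = w3 ∧ (z * w) ^ 3 = 1 ∧
      (z * (w * w)) ^ 3 = 1 := by
  have := finite_L (L := L)
  obtain ⟨z, hz, hz1⟩ := pr_lift e Nat.prime_three h3 z3_pow
  obtain ⟨w, hw, hw1⟩ := pr_lift e Nat.prime_three h3 w3_pow
  have hc : z * w = w * z := (pr_comm e Nat.prime_three h3 (z := z) (w := w) hz (by rw [hz1, hw1]; exact zw_comm.symm)).symm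
  have hc' : Commute z w := hc
  refine ⟨z, w, hz, hw, hc, hz1, hw1, ?_, ?_⟩
  · rw [hc'.mul_pow, hz, hw, one_mul]
  · rw [(hc'.mul_right hc').mul_pow, hz, one_mul, ← pow_two, ← pow_mul, mul_comm, pow_mul, hw, one_pow]

/-- the dimension of the fixed space of an inverted element of order three has the parity of `n` -/
theorem parity (H : QL p K V G L h) (hp3 : p ≠ 3) (e : (L ⧸ Subgroup.center L) ≃* A7)
    (h3 : ¬ 3 ∣ Nat.card (Subgroup.center L)) {x : L} (hx : x ^ 3 = 1) {τ : A7} (hτ : τ * pr e x * τ⁻¹ = (pr e x) ^ 2) :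
    ∃ c, finrank K V = fd H.lin x + 2 * c := by
  have := finite_L (L := L)
  obtain ⟨y, hy⟩ := pr_surjective e τ
  exact orbL H Nat.prime_three (Ne.symm hp3) hx (pr_rel e Nat.prime_three h3 hx (t := y) (by rw [hy]; exact hτ)) ord3
    (by norm_num)

theorem p2 (H : QL p K V G L h) (e : (L ⧸ Subgroup.center L) ≃* A7) (hp3 : p ≠ 3)
    (hn : finrank K V = 6) (hq : Nat.card K = 2) (h9 : ¬ 9 ∣ h) : False := by
  have := finite_L (L := L)
  have hfK := QN.finiteK H
  have hfd := QN.finiteDim H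
  have h3 : ¬ 3 ∣ Nat.card (Subgroup.center L) := not_dvd_center_of H Nat.prime_three (Or.inr (by rw [hq]; norm_num))
  obtain ⟨z, w, hz, hw, hzw, hz1, hw1, hzw3, hzww3⟩ := exists_zw H e h3
  have key := nineL H hp3 hz hw hzw
  obtain ⟨g, hg⟩ := pr_surjective e g1
  obtain ⟨g', hg'⟩ := pr_surjective e g2
  have e1 : g * z * g⁻¹ = w := pr_conj e Nat.prime_three h3 hz hw (by rw [hg, hz1, hw1]; exact g1_rel)
  have e2 : g' * (z * w) * g'⁻¹ = z * (w * w) := pr_conj e Nat.prime_three h3 hzw3 hzww3 (by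
    rw [hg', map_mul, map_mul, map_mul, hz1, hw1]; exact g2_rel)
  have f1 : fd H.lin w = fd H.lin z := by rw [← e1]; exact fd_conj H.lin g z
  have f2 : fd H.lin (z * (w * w)) = fd H.lin (z * w) := by rw [← e2]; exact fd_conj H.lin g' (z * w)
  obtain ⟨c1, hc1⟩ := parity H hp3 e h3 hz (by rw [hz1]; exact inv_z)
  obtain ⟨c2, hc2⟩ := parity H hp3 e h3 hzw3 (by rw [map_mul, hz1, hw1]; exact inv_zw)
  have h0 : finrank K ↥(es (repL H.lin z) 1 ⊓ es (repL H.lin w) 1) = 0 := by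
    rw [Submodule.finrank_eq_zero, Submodule.eq_bot_iff]
    intro v hv
    rw [Submodule.mem_inf] at hv
    obtain ⟨h1, h2⟩ := hv
    change _ ∈ Module.End.eigenspace _ 1 at h1
    change _ ∈ Module.End.eigenspace _ 1 at h2
    rw [Module.End.mem_eigenspace_iff, one_smul] at h1 h2
    by_contra hv0
    apply h9
    refine dvd_trans ?_ (stab_dvd H.half H.le hv0)
    refine nine_dvd (S := MulAction.stabilizer L v) (a := ⟨z, h1⟩) (b := ⟨w, h2⟩) (Subtype.ext hzw) (Subtype.ext hz)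
      (Subtype.ext hw) ?_ ?_
    · intro h5
      have h6 : z = 1 := congrArg Subtype.val h5
      apply z3_ne
      rw [← hz1, h6, map_one]
    · intro h5
      obtain ⟨k, hk⟩ := Subgroup.mem_zpowers_iff.1 h5
      have h6 : z ^ k = w := congrArg Subtype.val hk
      apply w3_not_mem
      rw [← hw1, ← h6, map_zpow, hz1]
      exact Subgroup.zpow_mem_zpowers z3 k
  omega

/-! ### `p = 7`, `n = 4`, `q = 7` -/

def a0 : A7 := mk (c[0, 1] * c[2, 3]) (by decide +kernel)
def a1 : A7 := mk (c[3, 4] * c[5, 6]) (by decide +kernel)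
def a2 : A7 := mk (c[0, 3] * c[1, 4]) (by decide +kernel)
def a3 : A7 := mk (c[0, 3] * c[1, 5]) (by decide +kernel)

theorem a0_sq : a0 ^ 2 = 1 := Subtype.ext (by decide +kernel)
theorem a1_sq : a1 ^ 2 = 1 := Subtype.ext (by decide +kernel)
theorem a2_sq : a2 ^ 2 = 1 := Subtype.ext (by decide +kernel)
theorem a3_sq : a3 ^ 2 = 1 := Subtype.ext (by decide +kernel)
theorem a0_ne : a0 ≠ 1 := fun h => absurd (congrArg Subtype.val h) (by decide +kernel)
theorem a1_ne : a1 ≠ 1 := fun h => absurd (congrArg Subtype.val h) (by decide +kernel)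
theorem a2_ne : a2 ≠ 1 := fun h => absurd (congrArg Subtype.val h) (by decide +kernel)
theorem a3_ne : a3 ≠ 1 := fun h => absurd (congrArg Subtype.val h) (by decide +kernel)
theorem a0_rel : z3 * (z3 * a0 * z3⁻¹) * z3⁻¹ = a0 * (z3 * a0 * z3⁻¹) := Subtype.ext (by decide +kernel)
theorem a1_rel : w3 * (w3 * a1 * w3⁻¹) * w3⁻¹ = a1 * (w3 * a1 * w3⁻¹) := Subtype.ext (by decide +kernel)
theorem a2_rel : (z3 * w3) * ((z3 * w3) * a2 * (z3 * w3)⁻¹) * (z3 * w3)⁻¹ = a2 * ((z3 * w3) * a2 * (z3 * w3)⁻¹) :=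
  Subtype.ext (by decide +kernel)
theorem a3_rel : (z3 * (w3 * w3)) * ((z3 * (w3 * w3)) * a3 * (z3 * (w3 * w3))⁻¹) * (z3 * (w3 * w3))⁻¹ =
    a3 * ((z3 * (w3 * w3)) * a3 * (z3 * (w3 * w3))⁻¹) := Subtype.ext (by decide +kernel)

/-- a transposition -/
def sw : Equiv.Perm (Fin 7) := c[0, 1]

/-- the involutions of `A₇` are conjugate -/
theorem conj_a0 {σ : A7} (h2 : σ ^ 2 = 1) (h1 : σ ≠ 1) : ∃ g : A7, g * a0 * g⁻¹ = σ := by
  have f2 : Fact (Nat.Prime 2) := ⟨Nat.prime_two⟩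
  have e1 : (σ : Equiv.Perm (Fin 7)) ^ 2 = 1 := congrArg Subtype.val h2
  have e2 : (σ : Equiv.Perm (Fin 7)) ≠ 1 := fun h => h1 (Subtype.ext h)
  have e3 : orderOf (σ : Equiv.Perm (Fin 7)) = 2 := orderOf_eq_prime e1 e2
  obtain ⟨n, hn⟩ := Equiv.Perm.cycleType_prime_order (σ := (σ : Equiv.Perm (Fin 7))) (by rw [e3]; exact Nat.prime_two)
  rw [e3] at hn
  have h3 : (σ : Equiv.Perm (Fin 7)).cycleType.sum ≤ 7 := by
    rw [Equiv.Perm.sum_cycleType]
    exact (Finset.card_le_univ _).trans (by simp)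
  have h4 : Equiv.Perm.sign (σ : Equiv.Perm (Fin 7)) = 1 := Equiv.Perm.mem_alternatingGroup.1 σ.2
  rw [Equiv.Perm.sign_of_cycleType, hn] at h4
  rw [hn, Multiset.sum_replicate, smul_eq_mul] at h3
  rw [Multiset.sum_replicate, Multiset.card_replicate, smul_eq_mul] at h4
  have h5 : n = 1 := by
    have : n = 0 ∨ n = 1 ∨ n = 2 := by omega
    rcases this with rfl | rfl | rfl
    · exact absurd h4 (by decide)
    · rfl
    · exact absurd h4 (by decide)
  subst h5
  have h6 : (a0 : Equiv.Perm (Fin 7)).cycleType = (σ : Equiv.Perm (Fin 7)).cycleType := by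
    rw [hn]
    decide +kernel
  obtain ⟨g, hg⟩ := isConj_iff.1 ((Equiv.Perm.isConj_iff_cycleType_eq).2 h6)
  rcases Int.units_eq_one_or (Equiv.Perm.sign g) with hs | hs
  · exact ⟨mk g hs, Subtype.ext hg⟩
  · refine ⟨mk (g * sw) (by rw [map_mul, hs]; decide +kernel), Subtype.ext ?_⟩
    change (g * sw) * (a0 : Equiv.Perm (Fin 7)) * (g * sw)⁻¹ = (σ : Equiv.Perm (Fin 7))
    rw [← hg]
    have h7 : sw * (a0 : Equiv.Perm (Fin 7)) * sw⁻¹ = (a0 : Equiv.Perm (Fin 7)) := by decide +kernel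
    calc (g * sw) * (a0 : Equiv.Perm (Fin 7)) * (g * sw)⁻¹
        = g * (sw * (a0 : Equiv.Perm (Fin 7)) * sw⁻¹) * g⁻¹ := by group
      _ = _ := by rw [h7]

theorem conj_inv {σ τ : A7} (h2 : σ ^ 2 = 1) (h1 : σ ≠ 1) (k2 : τ ^ 2 = 1) (k1 : τ ≠ 1) :
    ∃ g : A7, g * σ * g⁻¹ = τ := by
  obtain ⟨g, hg⟩ := conj_a0 h2 h1
  obtain ⟨k, hk⟩ := conj_a0 k2 k1
  refine ⟨k * g⁻¹, ?_⟩
  rw [← hg, ← hk]; group


/-- elements of order three, `n = 4`, `q = 7`, when some involution of `A₇` lifts to an involution -/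
theorem fd_two (H : QL p K V G L h) (hp2 : p ≠ 2) (hp3 : p ≠ 3) (e : (L ⧸ Subgroup.center L) ≃* A7)
    (hn : finrank K V = 4) (hq : Nat.card K = 7) (h3 : ¬ 3 ∣ Nat.card (Subgroup.center L)) {s : L} (hs : s ^ 2 = 1)
    (hs1 : pr e s ≠ 1) {x : L} (hx : x ^ 3 = 1) (hx1 : x ≠ 1) {α τ : A7} (hα : α ^ 2 = 1) (hα1 : α ≠ 1)
    (hr : pr e x * (pr e x * α * (pr e x)⁻¹) * (pr e x)⁻¹ = α * (pr e x * α * (pr e x)⁻¹))
    (hτ : τ * pr e x * τ⁻¹ = (pr e x) ^ 2) : fd H.lin x = 2 := by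
  have := finite_L (L := L)
  have hfK := QN.finiteK H
  have hfd := QN.finiteDim H
  obtain ⟨γ, hγ⟩ := conj_inv (σ := pr e s) (by rw [← map_pow, hs, map_one]) hs1 hα hα1
  obtain ⟨g, hg⟩ := pr_surjective e γ
  obtain ⟨a, ha⟩ : ∃ a, a = g * s * g⁻¹ := ⟨_, rfl⟩
  have ha2 : a * a = 1 := by
    rw [← pow_two, ha, conj_pow, hs, mul_one, mul_inv_cancel]
  have hpa : pr e a = α := by rw [ha, map_mul, map_mul, map_inv, hg, hγ]
  obtain ⟨b, hb⟩ : ∃ b, b = x * a * x⁻¹ := ⟨_, rfl⟩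
  have hpb : pr e b = pr e x * α * (pr e x)⁻¹ := by rw [hb, map_mul, map_mul, map_inv, hpa]
  obtain ⟨c, hc⟩ : ∃ c, c = x * b * x⁻¹ := ⟨_, rfl⟩
  have hb2 : b * b = 1 := by
    rw [← pow_two, hb, conj_pow, pow_two, ha2, mul_one, mul_inv_cancel]
  have hc2 : c * c = 1 := by
    rw [← pow_two, hc, conj_pow, pow_two, hb2, mul_one, mul_inv_cancel]
  obtain ⟨ε, hε⟩ : ∃ ε, ε = c * (a * b)⁻¹ := ⟨_, rfl⟩
  have hεZ : ε ∈ Subgroup.center L := by
    rw [← pr_eq_one e, hε, map_mul, map_inv, map_mul, hpa, hc, map_mul, map_mul, map_inv, hpb, hr, mul_inv_cancel]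
  have hεc : ∀ y, ε * y = y * ε := fun y => (Subgroup.mem_center_iff.1 hεZ y).symm
  have hε2 : ε * ε = 1 := by
    obtain ⟨h4, h6⟩ := center_pow H hεZ
    rw [hn] at h4
    rw [hq] at h6
    have : ε ^ 6 = ε ^ 4 * (ε * ε) := by group
    rw [← h6, this, h4, one_mul]
  have hcab : c = ε * (a * b) := by rw [hε]; group
  have hab2 : (a * b) * (a * b) = 1 := by
    have h1 : c * c = (ε * ε) * ((a * b) * (a * b)) := by
      rw [hcab]
      calc ε * (a * b) * (ε * (a * b)) = ε * ((a * b) * ε) * (a * b) := by group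
        _ = ε * (ε * (a * b)) * (a * b) := by rw [hεc (a * b)]
        _ = _ := by group
    rw [hc2, hε2, one_mul] at h1
    exact h1.symm
  have hab : a * b = b * a := by
    have ia : a⁻¹ = a := inv_eq_of_mul_eq_one_right ha2
    have ib : b⁻¹ = b := inv_eq_of_mul_eq_one_right hb2
    have iab : (a * b)⁻¹ = a * b := inv_eq_of_mul_eq_one_right hab2
    rw [← iab, mul_inv_rev, ia, ib]
  -- the four-group
  have hA2 : (ε * a) * (ε * a) = 1 := by
    calc (ε * a) * (ε * a) = ε * (a * ε) * a := by group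
      _ = (ε * ε) * (a * a) := by rw [← hεc a]; group
      _ = 1 := by rw [hε2, ha2, one_mul]
  have hB2 : (ε * b) * (ε * b) = 1 := by
    calc (ε * b) * (ε * b) = ε * (b * ε) * b := by group
      _ = (ε * ε) * (b * b) := by rw [← hεc b]; group
      _ = 1 := by rw [hε2, hb2, one_mul]
  have hAB' : (ε * a) * (ε * b) = a * b := by
    calc (ε * a) * (ε * b) = ε * (a * ε) * b := by group
      _ = (ε * ε) * (a * b) := by rw [← hεc a]; group
      _ = a * b := by rw [hε2, one_mul]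
  have hAB : (ε * a) * (ε * b) = (ε * b) * (ε * a) := by
    rw [hAB']
    calc a * b = b * a := hab
      _ = (ε * ε) * (b * a) := by rw [hε2, one_mul]
      _ = ε * (ε * b) * a := by group
      _ = ε * (b * ε) * a := by rw [hεc b]
      _ = _ := by group
  have hx1' : x * (ε * a) * x⁻¹ = ε * b := by
    rw [hb]
    calc x * (ε * a) * x⁻¹ = (x * ε) * a * x⁻¹ := by group
      _ = (ε * x) * a * x⁻¹ := by rw [hεc x]
      _ = _ := by group
  have hx2' : x * (ε * b) * x⁻¹ = (ε * a) * (ε * b) := by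
    rw [hAB']
    calc x * (ε * b) * x⁻¹ = (x * ε) * b * x⁻¹ := by group
      _ = (ε * x) * b * x⁻¹ := by rw [hεc x]
      _ = ε * c := by rw [hc]; group
      _ = ε * ε * (a * b) := by rw [hcab]; group
      _ = a * b := by rw [hε2, one_mul]
  have h2K : (2 : K) ≠ 0 := by
    have := natCast_ne_zero_of (K := K) (QN.exists_ne H) Nat.prime_two (Ne.symm hp2)
    exact_mod_cast this
  have key := Eig.a4 h2K (repL H.lin) hA2 hB2 hAB hx hx1' hx2'
  have hA1 : ε * a ≠ 1 := by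
    intro h1
    have h2 := congrArg (pr e) h1
    rw [map_mul, (pr_eq_one e).2 hεZ, one_mul, hpa, map_one] at h2
    exact hα1 h2
  have h4 := fd_lt H hA1
  have h5 : finrank K ↥(es (repL H.lin (ε * a)) 1 ⊓ es (repL H.lin (ε * b)) 1) ≤ fd H.lin (ε * a) :=
    Submodule.finrank_mono inf_le_left
  obtain ⟨k, hk⟩ := parity H hp3 e h3 hx hτ
  have h6 := fd_lt H hx1
  change 3 * fd H.lin x + _ = _ at key
  omega

/-- no involution of `A₇` lifts to an involution -/
theorem p7_even (H : QL p K V G L h) (hp2 : p ≠ 2) (hp3 : p ≠ 3) (e : (L ⧸ Subgroup.center L) ≃* A7)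
    (hn : finrank K V = 4) (hq : Nat.card K = 7) {s : L} (hs : s ^ 2 = 1) (hs1 : pr e s ≠ 1) : False := by
  have := finite_L (L := L)
  have h3 : ¬ 3 ∣ Nat.card (Subgroup.center L) := not_dvd_center_of H Nat.prime_three (Or.inl (by rw [hn]; norm_num))
  obtain ⟨z, w, hz, hw, hzw, hz1, hw1, hzw3, hzww3⟩ := exists_zw H e h3
  have key := nineL H hp3 hz hw hzw
  have n1 : z3 * w3 ≠ 1 := fun h => absurd (congrArg Subtype.val h) (by decide +kernel)
  have n2 : z3 * (w3 * w3) ≠ 1 := fun h => absurd (congrArg Subtype.val h) (by decide +kernel)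
  have n3 : w3 ≠ 1 := fun h => absurd (congrArg Subtype.val h) (by decide +kernel)
  have e1 : pr e (z * w) = z3 * w3 := by rw [map_mul, hz1, hw1]
  have e2 : pr e (z * (w * w)) = z3 * (w3 * w3) := by rw [map_mul, map_mul, hz1, hw1]
  have ne : ∀ {x : L} {t : A7}, pr e x = t → t ≠ 1 → x ≠ 1 := by
    rintro x t hx ht rfl
    exact ht (by rw [← hx, map_one])
  have f1 := fd_two H hp2 hp3 e hn hq h3 hs hs1 hz (ne hz1 z3_ne) a0_sq a0_ne (by rw [hz1]; exact a0_rel) (τ := inv3)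
    (by rw [hz1]; exact inv_z)
  have f2 := fd_two H hp2 hp3 e hn hq h3 hs hs1 hw (ne hw1 n3) a1_sq a1_ne (by rw [hw1]; exact a1_rel) (τ := inv3)
    (by rw [hw1]; exact inv_w)
  have f3 := fd_two H hp2 hp3 e hn hq h3 hs hs1 hzw3 (ne e1 n1) a2_sq a2_ne (by rw [e1]; exact a2_rel) (τ := inv3)
    (by rw [e1]; exact inv_zw)
  have f4 := fd_two H hp2 hp3 e hn hq h3 hs hs1 hzww3 (ne e2 n2) a3_sq a3_ne (by rw [e2]; exact a3_rel) (τ := inv3)
    (by rw [e2]; exact inv_zww)
  omega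

/-! ### Counting Sylow 7-subgroups -/

open scoped Pointwise in
/-- the stabiliser of a non-zero vector has order dividing 63 and divisible by 7 -/
theorem p7_odd (H : QL p K V G L h) (e : (L ⧸ Subgroup.center L) ≃* A7)
    (hV : Nat.card V = 2401) (hK : Nat.card K = 7)
    (hst : ∀ v : V, v ≠ 0 → Nat.card (MulAction.stabilizer L v) ∣ 63 ∧ 7 ∣ Nat.card (MulAction.stabilizer L v)) :
    False := by
  have := finite_L (L := L)
  have f7 : Fact (Nat.Prime 7) := ⟨by norm_num⟩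
  have hcL : Nat.card L = 2520 * Nat.card (Subgroup.center L) := by
    rw [Subgroup.card_eq_card_quotient_mul_card_subgroup (Subgroup.center L), (card_T e).1]
  have h49 : ¬ 7 ^ 2 ∣ Nat.card L := by
    intro hd
    rw [hcL] at hd
    have h1 : Nat.Coprime 7 (Nat.card (Subgroup.center L)) :=
      (Nat.Prime.coprime_iff_not_dvd (by norm_num)).2 (nd7 H e)
    have h2 : 7 ^ 2 ∣ 2520 := (Nat.Coprime.pow_left 2 h1).dvd_of_dvd_mul_right hd
    exact absurd h2 (by decide)
  have h7 : 7 ∣ Nat.card L := by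
    rw [hcL]
    exact (show 7 ∣ 2520 by decide).trans (Dvd.intro _ rfl)
  have hcard : ∀ P : Sylow 7 L, Nat.card P = 7 := Lift.card_syl h49 h7
  -- existence and uniqueness
  have hex : ∀ v : V, v ≠ 0 → ∃ P : Sylow 7 L, ∀ x ∈ (P : Subgroup L), (x : V ≃ₗ[ZMod p] V) v = v := by
    intro v hv
    obtain ⟨x, hx⟩ := exists_prime_orderOf_dvd_card' 7 (hst v hv).2
    have hx' : orderOf (x : L) = 7 := by rw [Subgroup.orderOf_coe]; exact hx
    refine ⟨Lift.sylOf h49 (Subgroup.zpowers (x : L)) (by rw [Nat.card_zpowers, hx']), ?_⟩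
    intro y hy
    have h1 : y ∈ Subgroup.zpowers (x : L) := hy
    have h2 : Subgroup.zpowers (x : L) ≤ MulAction.stabilizer L v := by
      rw [Subgroup.zpowers_le]; exact x.2
    exact h2 h1
  have huniq : ∀ v : V, v ≠ 0 → ∀ P Q : Sylow 7 L, (∀ x ∈ (P : Subgroup L), (x : V ≃ₗ[ZMod p] V) v = v) →
      (∀ x ∈ (Q : Subgroup L), (x : V ≃ₗ[ZMod p] V) v = v) → P = Q := by
    intro v hv P Q hP hQ
    obtain ⟨S, hS⟩ : ∃ S, S = MulAction.stabilizer L v := ⟨_, rfl⟩
    have hPS : (P : Subgroup L) ≤ S := by rw [hS]; exact fun x hx => hP x hx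
    have hQS : (Q : Subgroup L) ≤ S := by rw [hS]; exact fun x hx => hQ x hx
    have h1 : Nat.card S ∣ 63 := by rw [hS]; exact (hst v hv).1
    have h1' : 7 ∣ Nat.card S := by rw [hS]; exact (hst v hv).2
    have h2 : ¬ 7 ^ 2 ∣ Nat.card S := fun hc => absurd (hc.trans h1) (by decide)
    have h3 : Nat.card (Sylow 7 S) = 1 := by
      obtain ⟨R⟩ : Nonempty (Sylow 7 S) := inferInstance
      have a1 := R.card_dvd_index
      have a2 := card_sylow_modEq_one 7 S
      have a3 : (R : Subgroup S).index ∣ 9 := by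
        have b1 := (R : Subgroup S).card_mul_index
        have b2 : Nat.card (R : Subgroup S) = 7 := Lift.card_syl h2 h1' R
        rw [b2] at b1
        have b3 : 7 * (R : Subgroup S).index ∣ 7 * 9 := by rw [b1]; exact h1
        exact (Nat.mul_dvd_mul_iff_left (by norm_num)).1 b3
      have a4 : Nat.card (Sylow 7 S) ∣ 9 := a1.trans a3
      have a5 : Nat.card (Sylow 7 S) ≤ 9 := Nat.le_of_dvd (by norm_num) a4
      have a6 : Nat.card (Sylow 7 S) % 7 = 1 := a2
      have a7 : Nat.card (Sylow 7 S) = 1 ∨ Nat.card (Sylow 7 S) = 8 := by omega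
      rcases a7 with a7 | a7
      · exact a7
      · rw [a7] at a4; exact absurd a4 (by decide)
    have h4 : (P.subtype hPS) = (Q.subtype hQS) := by
      have : Subsingleton (Sylow 7 S) := (Nat.card_eq_one_iff_unique.1 h3).1
      exact Subsingleton.elim _ _
    exact Sylow.subtype_injective h4
  -- the fixed spaces have the same order
  obtain ⟨P₀⟩ : Nonempty (Sylow 7 L) := inferInstance
  obtain ⟨M, hM⟩ : ∃ M, M = Nat.card {v : V // v ≠ 0 ∧ ∀ x ∈ (P₀ : Subgroup L), (x : V ≃ₗ[ZMod p] V) v = v} := ⟨_, rfl⟩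
  have hconst : ∀ P : Sylow 7 L, Nat.card {v : V // v ≠ 0 ∧ ∀ x ∈ (P : Subgroup L), (x : V ≃ₗ[ZMod p] V) v = v} = M := by
    intro P
    obtain ⟨g, hg⟩ := MulAction.exists_smul_eq L P₀ P
    rw [hM]
    have hmem : ∀ x : L, x ∈ (P₀ : Subgroup L) → g * x * g⁻¹ ∈ (P : Subgroup L) := by
      intro x hx
      rw [← hg]
      change g * x * g⁻¹ ∈ MulAut.conj g • (P₀ : Subgroup L)
      exact Subgroup.smul_mem_pointwise_smul _ (MulAut.conj g) _ hx
    have hmem' : ∀ x : L, x ∈ (P : Subgroup L) → g⁻¹ * x * g ∈ (P₀ : Subgroup L) := by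
      intro x hx
      rw [← hg] at hx
      change x ∈ MulAut.conj g • (P₀ : Subgroup L) at hx
      rw [Subgroup.mem_pointwise_smul_iff_inv_smul_mem] at hx
      rw [← map_inv] at hx
      have h5 : (MulAut.conj g⁻¹) • x = g⁻¹ * x * g := by
        rw [MulAut.smul_def, MulAut.conj_apply, inv_inv]
      rwa [h5] at hx
    refine Nat.card_congr ⟨fun v => ⟨(g : V ≃ₗ[ZMod p] V)⁻¹ v.1, ?_, ?_⟩, fun v => ⟨(g : V ≃ₗ[ZMod p] V) v.1, ?_, ?_⟩, ?_, ?_⟩
    · intro h
      exact v.2.1 (((g : V ≃ₗ[ZMod p] V)⁻¹).map_eq_zero_iff.1 h)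
    · intro x hx
      have h1 := v.2.2 _ (hmem x hx)
      change (g : V ≃ₗ[ZMod p] V) ((x : V ≃ₗ[ZMod p] V) ((g : V ≃ₗ[ZMod p] V)⁻¹ v.1)) = v.1 at h1
      apply (g : V ≃ₗ[ZMod p] V).injective
      rw [h1]
      change v.1 = ((g : V ≃ₗ[ZMod p] V) * (g : V ≃ₗ[ZMod p] V)⁻¹) v.1
      rw [mul_inv_cancel]; rfl
    · intro h
      exact v.2.1 ((g : V ≃ₗ[ZMod p] V).map_eq_zero_iff.1 h)
    · intro x hx
      have h1 := v.2.2 _ (hmem' x hx)
      change (g : V ≃ₗ[ZMod p] V)⁻¹ ((x : V ≃ₗ[ZMod p] V) ((g : V ≃ₗ[ZMod p] V) v.1)) = v.1 at h1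
      apply ((g : V ≃ₗ[ZMod p] V)⁻¹).injective
      rw [h1]
      change v.1 = ((g : V ≃ₗ[ZMod p] V)⁻¹ * (g : V ≃ₗ[ZMod p] V)) v.1
      rw [inv_mul_cancel]; rfl
    · intro v
      apply Subtype.ext
      change ((g : V ≃ₗ[ZMod p] V) * (g : V ≃ₗ[ZMod p] V)⁻¹) v.1 = v.1
      rw [mul_inv_cancel]; rfl
    · intro v
      apply Subtype.ext
      change ((g : V ≃ₗ[ZMod p] V)⁻¹ * (g : V ≃ₗ[ZMod p] V)) v.1 = v.1
      rw [inv_mul_cancel]; rfl
  have hcount : Nat.card {v : V // v ≠ 0} = Nat.card (Sylow 7 L) * M := by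
    classical
    have := Fintype.ofFinite (Sylow 7 L)
    have h1 : Nat.card (Σ P : Sylow 7 L, {v : V // v ≠ 0 ∧ ∀ x ∈ (P : Subgroup L), (x : V ≃ₗ[ZMod p] V) v = v}) =
        Nat.card {v : V // v ≠ 0} := by
      refine Nat.card_congr (Equiv.ofBijective (fun s => ⟨s.2.1, s.2.2.1⟩) ⟨?_, ?_⟩)
      · rintro ⟨P, v, hv⟩ ⟨Q, w, hw⟩ hvw
        have h2 : v = w := congrArg Subtype.val hvw
        subst h2
        have h3 := huniq v hv.1 P Q hv.2 hw.2
        subst h3
        rfl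
      · rintro ⟨v, hv⟩
        obtain ⟨P, hP⟩ := hex v hv
        exact ⟨⟨P, v, hv, hP⟩, rfl⟩
    rw [← h1, Nat.card_sigma, Finset.sum_congr rfl fun P _ => hconst P, Finset.sum_const, Finset.card_univ,
      smul_eq_mul, Nat.card_eq_fintype_card]
  have hM7 : ∃ c, c < 4 ∧ M + 1 = 7 ^ c := by
    have hfK := QN.finiteK H
    obtain ⟨x, hx⟩ := exists_prime_orderOf_dvd_card' (G := (P₀ : Subgroup L)) 7 (by rw [hcard P₀])
    have hx' : orderOf (x : L) = 7 := by rw [Subgroup.orderOf_coe]; exact hx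
    have hx1 : (x : L) ≠ 1 := by
      intro h1
      rw [h1, orderOf_one] at hx'
      omega
    have h1 : Subgroup.zpowers (x : L) = (P₀ : Subgroup L) := by
      refine Subgroup.eq_of_le_of_card_ge ((Subgroup.zpowers_le).2 x.2) ?_
      rw [Nat.card_zpowers, hx', hcard P₀]
    refine ⟨fd H.lin (x : L), ?_, ?_⟩
    · have h2 := fd_lt H hx1
      have h3 := QN.card_V H
      rw [hV, hK] at h3
      have h4 : finrank K V = 4 := by
        apply Nat.pow_right_injective (le_refl 7 |>.trans' (by norm_num) : 2 ≤ 7)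
        change 7 ^ finrank K V = 7 ^ 4
        rw [← h3]
      omega
    · have h6 := card_fx_eq_fd H.lin (x : L)
      rw [hK] at h6
      rw [hM, ← h6, ← card_sub_ne_zero (fx ((x : L) : V ≃ₗ[ZMod p] V))
        (fun v => ∀ y ∈ (P₀ : Subgroup L), (y : V ≃ₗ[ZMod p] V) v = v)]
      · congr 1
        exact Nat.card_congr ⟨fun v => ⟨⟨v.1, v.2.1⟩, v.2.2⟩, fun v => ⟨v.1.1, v.1.2, v.2⟩, fun _ => rfl, fun _ => rfl⟩
      · intro v
        rw [mem_fx]
        constructor
        · intro h2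
          exact h2 x x.2
        · intro h2 y hy
          have h3 : Subgroup.zpowers (x : L) ≤ MulAction.stabilizer L v := by
            rw [Subgroup.zpowers_le]; exact h2
          rw [h1] at h3
          exact h3 hy
  have hV0 : Nat.card {v : V // v ≠ 0} = 2400 := by
    have := card_ne_zero (V := V)
    omega
  obtain ⟨c, hc, hMc⟩ := hM7
  rw [hV0] at hcount
  have h25 : ¬ 25 ∣ Nat.card (Sylow 7 L) := by
    intro hd
    have h1 : 25 ∣ Nat.card L := hd.trans (P₀.card_dvd_index.trans (Subgroup.index_dvd_card _))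
    rw [hcL] at h1
    have h2 : Nat.Coprime 5 (Nat.card (Subgroup.center L)) :=
      (Nat.Prime.coprime_iff_not_dvd (by norm_num)).2 (nd5 H e)
    have h3 : 5 ^ 2 ∣ 2520 := (Nat.Coprime.pow_left 2 h2).dvd_of_dvd_mul_right h1
    exact absurd h3 (by decide)
  have hc' : c = 0 ∨ c = 1 ∨ c = 2 ∨ c = 3 := by omega
  rcases hc' with rfl | rfl | rfl | rfl
  · have : M = 0 := by omega
    rw [this] at hcount
    omega
  · have : M = 6 := by omega
    rw [this] at hcount
    apply h25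
    have : Nat.card (Sylow 7 L) = 400 := by omega
    rw [this]
    decide
  · have : M = 48 := by omega
    rw [this] at hcount
    apply h25
    have : Nat.card (Sylow 7 L) = 50 := by omega
    rw [this]
    decide
  · have : M = 342 := by omega
    rw [this] at hcount
    omega

theorem p7 (H : QL p K V G L h) (e : (L ⧸ Subgroup.center L) ≃* A7) (hp2 : p ≠ 2) (hp3 : p ≠ 3) (h0 : 0 < h) {m : ℕ}
    (hm : m * h = Nat.card G) (hn : finrank K V = 4) (hq : Nat.card K = 7) (hm' : m = 240 ∨ m = 480) (hh : h ∣ 126) :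
    False := by
  have := finite_L (L := L)
  have hV : Nat.card V = 2401 := by rw [QN.card_V H, hn, hq]; norm_num
  have f2 : Fact (Nat.Prime 2) := ⟨Nat.prime_two⟩
  by_cases hev : ∃ v : V, v ≠ 0 ∧ 2 ∣ Nat.card (MulAction.stabilizer L v)
  · obtain ⟨v, hv, h2⟩ := hev
    obtain ⟨s, hs⟩ := exists_prime_orderOf_dvd_card' 2 h2
    have hs' : orderOf (s : L) = 2 := by rw [Subgroup.orderOf_coe]; exact hs
    refine p7_even H hp2 hp3 e hn hq (s := s) (by rw [← hs', pow_orderOf_eq_one]) ?_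
    intro h1
    have h3 := central_fixed H ((pr_eq_one e).1 h1) hv s.2
    rw [h3, orderOf_one] at hs'
    omega
  · push Not at hev
    refine p7_odd H e hV hq fun v hv => ⟨?_, ?_⟩
    · have h1 := (stab_dvd H.half H.le hv).trans hh
      have h2 : Nat.Coprime (Nat.card (MulAction.stabilizer L v)) 2 :=
        ((Nat.Prime.coprime_iff_not_dvd Nat.prime_two).2 (hev v hv)).symm
      exact h2.dvd_of_dvd_mul_left (show _ ∣ 2 * 63 from h1)
    · refine part_dvd_stab H.half h0 hm H.le H.nrm ?_ ?_ hv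
      · rw [Subgroup.card_eq_card_quotient_mul_card_subgroup (Subgroup.center L), (card_T e).1]
        exact (show 7 ∣ 2520 by decide).trans (Dvd.intro _ rfl)
      · rcases hm' with rfl | rfl <;> decide

/-! ### The row -/

/-- the numerical survivors -/
def ex : List (ℕ × ℕ × ℕ) := [(3, 4, 21), (3, 16, 315), (4, 8, 315), (6, 2, 21), (6, 4, 315), (12, 2, 315), (4,
    3, 40), (4, 3, 20), (4, 27, 7280), (4, 27, 3640), (3, 25, 504), (4, 125, 31248), (6, 5, 504), (4, 7, 480), (4,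
    7, 240)]

/-- **the row `A₇`** -/
theorem row (H : QL p K V G L h) (e : (L ⧸ Subgroup.center L) ≃* alternatingGroup (Fin 7)) (hp : p ∣ Nat.card G) :
    Tr G := by
  by_contra hn
  obtain ⟨m, hm, hcp, hph, hpm, hm0⟩ := QN.cp H hp hn
  have hpp : p.Prime := Fact.out
  obtain ⟨k, hk, hk0⟩ := QN.exists_card H
  have hfK := QN.finiteK H
  have h0 : 0 < h := by have := hcp.1; omega
  obtain ⟨hT, hA⟩ := card_T e
  have hd : m * h ∣ (Nat.card K - 1) * 5040 := by rw [← hA]; exact hcp.2.2.2.2.1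
  -- the prime
  have hp4 : p ∈ [2, 3, 5, 7] := by
    have h1 : p ∣ (Nat.card K - 1) * 5040 := hph.trans ((Dvd.intro_left _ rfl).trans hd)
    rcases (Nat.Prime.dvd_mul hpp).1 h1 with h2 | h2
    · exfalso
      rw [hk] at h2
      have h3 : p ∣ p ^ k := dvd_pow_self p (by omega)
      have h4 : 1 ≤ p ^ k := Nat.one_le_pow _ _ hpp.pos
      have h5 : p ∣ 1 := by
        have := Nat.dvd_sub h3 h2
        rwa [show p ^ k - (p ^ k - 1) = 1 by omega] at this
      exact hpp.one_lt.ne' (Nat.dvd_one.1 h5)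
    · have h3 : p ∣ 2 ^ 4 * 3 ^ 2 * 5 * 7 := h2
      have h4 : p = 2 ∨ p = 3 ∨ p = 5 ∨ p = 7 := by
        rcases (Nat.Prime.dvd_mul hpp).1 h3 with h3 | h3
        · rcases (Nat.Prime.dvd_mul hpp).1 h3 with h3 | h3
          · rcases (Nat.Prime.dvd_mul hpp).1 h3 with h3 | h3
            · exact Or.inl ((Nat.prime_dvd_prime_iff_eq hpp Nat.prime_two).1 (hpp.dvd_of_dvd_pow h3))
            · exact Or.inr (Or.inl ((Nat.prime_dvd_prime_iff_eq hpp Nat.prime_three).1 (hpp.dvd_of_dvd_pow h3)))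
          · exact Or.inr (Or.inr (Or.inl ((Nat.prime_dvd_prime_iff_eq hpp Nat.prime_five).1 h3)))
        · exact Or.inr (Or.inr (Or.inr ((Nat.prime_dvd_prime_iff_eq hpp (by norm_num)).1 h3)))
      simpa using h4
  have hn3 : 3 ≤ finrank K V := by
    by_cases h7 : p = 7
    · have := four_le H e (by omega)
      omega
    · exact three_le H e h7
  have hsv : Cfsg.Agent.H391.HT.Surv ex p (finrank K V) (L ⧸ Subgroup.center L) :=
    Cfsg.Agent.H391.HT.surv [(2, 4, 315), (3, 2, 560), (5, 1, 1008), (7, 1, 720)] 18 20 19 (A := 5040) hpp hT (dvd_of_eq hA)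
      (by norm_num) hn3 (by decide +kernel) hp4
  have hmem := hsv k m h (by omega) (by rw [← hk]; exact hcp)
  rw [← hk] at hmem
  have h3 := three_dvd_h H e
  have hgl := QN.card_L_dvd_gl H
  have hTL : 2520 ∣ Nat.card L := by rw [← hT]; exact QN.card_quot_dvd_L H
  simp only [ex, List.mem_cons, List.not_mem_nil, or_false, Prod.mk.injEq] at hmem
  have hprime : ∀ {r j : ℕ}, r.Prime → Nat.card K = r ^ j → j ≠ 0 → p = r := by
    intro r j hr hj hj0
    have h1 : p ∣ r ^ j := by rw [← hj, hk]; exact dvd_pow_self p (by omega)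
    exact (Nat.prime_dvd_prime_iff_eq hpp hr).1 (hpp.dvd_of_dvd_pow h1)
  have hdiv : ∀ {M c : ℕ}, 0 < M → m = M → (Nat.card K - 1) * 5040 = M * c → h ∣ c := by
    intro M c hM hmM hc
    rw [hc, hmM] at hd
    exact (Nat.mul_dvd_mul_iff_left hM).1 hd
  rcases hmem with h | h | h | h | h | h | h | h | h | h | h | h | h | h | h
  · -- (3, 4, 21)
    obtain ⟨e1, e2, e3⟩ := h
    have hp2 := hprime Nat.prime_two (j := 2) (by rw [e2]; norm_num) (by norm_num)
    have := four_le H e (by omega)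
    omega
  · obtain ⟨e1, e2, e3⟩ := h
    have hp2 := hprime Nat.prime_two (j := 4) (by rw [e2]; norm_num) (by norm_num)
    have := four_le H e (by omega)
    omega
  · obtain ⟨e1, e2, e3⟩ := h
    have h4 := hdiv (c := 112) (by norm_num) e3 (by rw [e2])
    exact absurd (h3.trans h4) (by decide)
  · obtain ⟨e1, e2, e3⟩ := h
    have hp2 := hprime Nat.prime_two (j := 1) (by rw [e2]; norm_num) (by norm_num)
    have h4 := hdiv (c := 240) (by norm_num) e3 (by rw [e2])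
    exact p2 H e (by omega) e1 e2 (fun h9 => absurd (h9.trans h4) (by decide))
  · obtain ⟨e1, e2, e3⟩ := h
    have hp2 := hprime Nat.prime_two (j := 2) (by rw [e2]; norm_num) (by norm_num)
    have h4 := hdiv (c := 48) (by norm_num) e3 (by rw [e2])
    have := kill5 H e (by omega) (fun h5 => absurd (h5.trans h4) (by decide))
    rw [e1] at this
    exact absurd this (by decide)
  · obtain ⟨e1, e2, e3⟩ := h
    have h4 := hdiv (c := 16) (by norm_num) e3 (by rw [e2])
    exact absurd (h3.trans h4) (by decide)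
  · obtain ⟨e1, e2, e3⟩ := h
    have h4 := (hTL.trans hgl)
    rw [e1, e2] at h4
    exact absurd h4 (by decide +kernel)
  · obtain ⟨e1, e2, e3⟩ := h
    have h4 := (hTL.trans hgl)
    rw [e1, e2] at h4
    exact absurd h4 (by decide +kernel)
  · obtain ⟨e1, e2, e3⟩ := h
    have hp2 := hprime Nat.prime_three (j := 3) (by rw [e2]; norm_num) (by norm_num)
    have h4 := hdiv (c := 18) (by norm_num) e3 (by rw [e2])
    have := kill7 H e (by omega) (fun h5 => absurd (h5.trans h4) (by decide))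
    rw [e1] at this
    exact absurd this (by decide)
  · obtain ⟨e1, e2, e3⟩ := h
    have hp2 := hprime Nat.prime_three (j := 3) (by rw [e2]; norm_num) (by norm_num)
    have h4 := hdiv (c := 36) (by norm_num) e3 (by rw [e2])
    have := kill7 H e (by omega) (fun h5 => absurd (h5.trans h4) (by decide))
    rw [e1] at this
    exact absurd this (by decide)
  · obtain ⟨e1, e2, e3⟩ := h
    have h4 := hdiv (c := 240) (by norm_num) e3 (by rw [e2])
    exact p5 H e h0 hm e1 e2 e3 (fun h7 => absurd (h7.trans h4) (by decide))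
  · obtain ⟨e1, e2, e3⟩ := h
    have hp2 := hprime Nat.prime_five (j := 3) (by rw [e2]; norm_num) (by norm_num)
    have h4 := hdiv (c := 20) (by norm_num) e3 (by rw [e2])
    have := kill7 H e (by omega) (fun h5 => absurd (h5.trans h4) (by decide))
    rw [e1] at this
    exact absurd this (by decide)
  · obtain ⟨e1, e2, e3⟩ := h
    have h4 := hdiv (c := 40) (by norm_num) e3 (by rw [e2])
    exact absurd (h3.trans h4) (by decide)
  · obtain ⟨e1, e2, e3⟩ := h
    have hp2 := hprime (r := 7) (by norm_num) (j := 1) (by rw [e2]; norm_num) (by norm_num)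
    have h4 := hdiv (c := 63) (by norm_num) e3 (by rw [e2])
    exact p7 H e (by omega) (by omega) h0 hm e1 e2 (Or.inr e3) (h4.trans (by decide))
  · obtain ⟨e1, e2, e3⟩ := h
    have hp2 := hprime (r := 7) (by norm_num) (j := 1) (by rw [e2]; norm_num) (by norm_num)
    have h4 := hdiv (c := 126) (by norm_num) e3 (by rw [e2])
    exact p7 H e (by omega) (by omega) h0 hm e1 e2 (Or.inl e3) h4

end Cfsg.Agent.H192.Ht.ASeven
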