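import Cfsg.Agent.H333.QS6.Rep
import Cfsg.Agent.H192.Ht.QLN
import Cfsg.Agent.H19.HT.Asm

/-!
# S3512: Frobenius freeness (helper192)

* `free`: `z ^ r = 1`, `r` prime, `y z y⁻¹ = z ^ a`, `a` of order `e` modulo `r`, `y ^ e = 1`, `C_V(z) = 0`: then
  `e * dim C_V(y) = dim V` (the characteristic may divide `e`);
* `frob`: the same for elements of `L` in the setting `QL` / `QSP`, `|C_V(y)| ^ e = |V|`;
* `frob'`: `x^j` (`0 < j < e`) does not centralise `a`.
-/

set_option autoImplicit false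
set_option linter.unusedSectionVars false
set_option linter.style.haveILetI false

universe u v w

namespace Cfsg.Agent.H192.Ht

open Module Cfsg.Agent.H952.F4 Cfsg.Agent.H333.QS6.Rep
open Cfsg.Agent.H828.HT hiding ev
open Cfsg.Agent.H742.HT

section gen

variable {K : Type u} {V : Type v} [Field K] [AddCommGroup V] [Module K V] [FiniteDimensional K V]
  {Γ : Type w} [Group Γ]

/-- **Frobenius freeness.** -/
theorem free (ρ : Representation K Γ V) {r : ℕ} (hr : r.Prime) (hrK : (r : K) ≠ 0) {z y : Γ} {a e : ℕ}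
    (hz : z ^ r = 1) (hyz : y * z * y⁻¹ = z ^ a) (he : orderOf (a : ZMod r) = e) (he0 : 0 < e) (hy : y ^ e = 1)
    (h0 : ev (ρ z) 1 = 0) : e * ev (ρ y) 1 = finrank K V := by
  have h1 := Cfsg.Agent.H952.F4.Eig.frob (bar ρ) hr (by
    rw [← map_natCast (algebraMap K (AlgebraicClosure K))]
    exact fun h => hrK ((algebraMap K (AlgebraicClosure K)).injective (by rw [h, map_zero]))) hz hyz he he0 hy
    (μ := 1) (one_pow e)
  rw [ev_bar_one, ev_bar_one, h0, add_zero, finrank_fin_fun] at h1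
  have h2 : finrank (AlgebraicClosure K) ↥(es (bar ρ z) 1 ⊓ es (bar ρ y) 1) = 0 := by
    have h3 : finrank (AlgebraicClosure K) ↥(es (bar ρ z) 1 ⊓ es (bar ρ y) 1) ≤ ev (bar ρ z) 1 :=
      Submodule.finrank_mono inf_le_left
    rw [ev_bar_one, h0] at h3
    omega
  rw [h2, mul_zero, zero_add] at h1
  exact h1

end gen

/-- the order of `k` modulo `r` -/
theorem order_of_conj {Γ : Type w} [Group Γ] {r : ℕ} (hr : r.Prime) {a x : Γ} {k e : ℕ} (ha : a ^ r = 1) (ha1 : a ≠ 1)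
    (hxa : x * a * x⁻¹ = a ^ k) (he0 : 0 < e) (hx : x ^ e = 1)
    (hj : ∀ j, 0 < j → j < e → x ^ j * a ≠ a * x ^ j) : orderOf (k : ZMod r) = e := by
  have hf : Fact r.Prime := ⟨hr⟩
  have hpow : ∀ j : ℕ, x ^ j * a * (x ^ j)⁻¹ = a ^ (k ^ j) := by
    intro j
    induction j with
    | zero => simp
    | succ j ih =>
      have : x ^ (j + 1) * a * (x ^ (j + 1))⁻¹ = x * (x ^ j * a * (x ^ j)⁻¹) * x⁻¹ := by
        rw [pow_succ']; group
      rw [this, ih, ← conj_pow, hxa, ← pow_mul, pow_succ']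
  have hord : orderOf a = r := orderOf_eq_prime ha ha1
  have hiff : ∀ j : ℕ, (k : ZMod r) ^ j = 1 ↔ x ^ j * a = a * x ^ j := by
    intro j
    have h1 : (k : ZMod r) ^ j = 1 ↔ k ^ j ≡ 1 [MOD r] := by
      rw [← ZMod.natCast_eq_natCast_iff, Nat.cast_pow, Nat.cast_one]
    have h2 : x ^ j * a = a * x ^ j ↔ a ^ (k ^ j) = a ^ 1 := by
      rw [← hpow, pow_one]
      exact mul_inv_eq_iff_eq_mul.symm
    rw [h1, h2, pow_eq_pow_iff_modEq, hord]
  rw [orderOf_eq_iff he0]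
  refine ⟨(hiff e).2 (by rw [hx]; group), fun j hlt hj0 h => hj j hj0 hlt ((hiff j).1 h)⟩

section ql

variable {p : ℕ} [Fact p.Prime] {K : Type w} [Field K] {V : Type u} [AddCommGroup V] [Module (ZMod p) V] [Finite V]
    [Module K V] {G L : Subgroup (V ≃ₗ[ZMod p] V)} {h : ℕ}

/-- the representation of `L` on `V` over `K` -/
def repL (hlin : ∀ l ∈ L, ∀ (c : K) (v : V), l (c • v) = c • l v) : Representation K L V where
  toFun l :=
    { toFun := fun v => (l : V ≃ₗ[ZMod p] V) v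
      map_add' := fun x y => map_add _ x y
      map_smul' := fun c v => hlin l l.2 c v }
  map_one' := rfl
  map_mul' _ _ := rfl

theorem ev_eq_finrank (hlin : ∀ l ∈ L, ∀ (c : K) (v : V), l (c • v) = c • l v) (l : L) :
    Nat.card K ^ ev (repL hlin l) 1 = Nat.card (fx (l : V ≃ₗ[ZMod p] V)) := by
  have : Module.Finite K V := Module.Finite.of_finite
  unfold ev
  rw [← Module.natCard_eq_pow_finrank]
  refine Nat.card_congr ⟨fun v => ⟨v.1, ?_⟩, fun v => ⟨v.1, ?_⟩, fun _ => rfl, fun _ => rfl⟩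
  · have := Module.End.mem_eigenspace_iff.1 v.2
    rw [one_smul] at this
    exact mem_fx.2 this
  · rw [Module.End.mem_eigenspace_iff, one_smul]
    exact mem_fx.1 v.2

theorem ev_eq_zero_iff [Finite K] [Nontrivial V] (hlin : ∀ l ∈ L, ∀ (c : K) (v : V), l (c • v) = c • l v) (l : L) :
    ev (repL hlin l) 1 = 0 ↔ ∀ v : V, (l : V ≃ₗ[ZMod p] V) v = v → v = 0 := by
  have h1 := ev_eq_finrank hlin l
  have hK : 1 < Nat.card K := Finite.one_lt_card
  constructor
  · intro h v hv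
    rw [h, pow_zero] at h1
    have : Subsingleton (fx (l : V ≃ₗ[ZMod p] V)) := (Nat.card_eq_one_iff_unique.1 h1.symm).1
    have h2 := Subsingleton.elim (⟨v, mem_fx.2 hv⟩ : fx (l : V ≃ₗ[ZMod p] V)) 0
    exact congrArg Subtype.val h2
  · intro h
    have h2 : Nat.card (fx (l : V ≃ₗ[ZMod p] V)) = 1 := by
      rw [Nat.card_eq_one_iff_unique]
      refine ⟨⟨fun a b => ?_⟩, ⟨0⟩⟩
      apply Subtype.ext
      rw [h a (mem_fx.1 a.2), h b (mem_fx.1 b.2)]
    rw [h2] at h1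
    by_contra h3
    have h4 := Nat.one_lt_pow h3 hK
    omega

theorem natCast_ne_zero_of (hV : ∃ v : V, v ≠ 0) {r : ℕ} (hr : r.Prime) (hrp : r ≠ p) : (r : K) ≠ 0 := by
  obtain ⟨v, hv⟩ := hV
  intro h0
  have h1 : (p : K) = 0 := by
    have h2 : (p : ℕ) • v = 0 := by
      rw [← Nat.cast_smul_eq_nsmul (ZMod p), ZMod.natCast_self, zero_smul]
    rw [← Nat.cast_smul_eq_nsmul K] at h2
    exact (smul_eq_zero.1 h2).resolve_right hv
  have hc : r.Coprime p := (Nat.coprime_primes hr Fact.out).2 hrp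
  have h3 := Nat.isCoprime_iff_coprime.2 hc
  obtain ⟨x, y, hxy⟩ := h3
  have h4 := congrArg (Int.cast : ℤ → K) hxy
  push_cast at h4
  rw [h0, h1, mul_zero, mul_zero, add_zero] at h4
  exact zero_ne_one h4

/-- **Frobenius freeness for elements of `L`**, dimension form -/
theorem frobL [Finite K] (hV : ∃ v : V, v ≠ 0) (hlin : ∀ l ∈ L, ∀ (c : K) (v : V), l (c • v) = c • l v)
    {r : ℕ} (hr : r.Prime) (hrp : r ≠ p) {z y : L} {a e : ℕ} (hz : z ^ r = 1) (hyz : y * z * y⁻¹ = z ^ a)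
    (he : orderOf (a : ZMod r) = e) (he0 : 0 < e) (hy : y ^ e = 1)
    (h0 : ∀ v : V, (z : V ≃ₗ[ZMod p] V) v = v → v = 0) :
    e * ev (repL hlin y) 1 = finrank K V := by
  have : Module.Finite K V := Module.Finite.of_finite
  obtain ⟨v, hv⟩ := hV
  have : Nontrivial V := ⟨⟨v, 0, hv⟩⟩
  exact free (repL hlin) hr (natCast_ne_zero_of ⟨v, hv⟩ hr hrp) hz hyz he he0 hy
    ((ev_eq_zero_iff hlin z).2 h0)

/-- **Frobenius freeness in the setting `QL`** -/
theorem frob (H : QL p K V G L h) {r : ℕ} (hr : r.Prime) (hrp : r ≠ p) {z y : L} {a e : ℕ} (hz : z ^ r = 1)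
    (hyz : y * z * y⁻¹ = z ^ a) (he : orderOf (a : ZMod r) = e) (he0 : 0 < e) (hy : y ^ e = 1)
    (h0 : ∀ v : V, (z : V ≃ₗ[ZMod p] V) v = v → v = 0) :
    ∃ c, e * c = finrank K V ∧ Nat.card (fx (y : V ≃ₗ[ZMod p] V)) = Nat.card K ^ c ∧
      Nat.card (fx (y : V ≃ₗ[ZMod p] V)) ^ e = Nat.card V := by
  have := QN.finiteK H
  have h1 := frobL (QN.exists_ne H) H.lin hr hrp hz hyz he he0 hy h0
  refine ⟨ev (repL H.lin y) 1, h1, (ev_eq_finrank H.lin y).symm, ?_⟩
  rw [← ev_eq_finrank H.lin y, ← pow_mul, mul_comm, h1, ← QN.card_V H]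

/-- **Frobenius freeness**, `x ^ j`, `0 < j < e`, does not centralise `a` -/
theorem frob' (H : QL p K V G L h) {r : ℕ} (hr : r.Prime) (hrp : r ≠ p) {a x : L} {k e : ℕ} (ha : a ^ r = 1)
    (ha1 : a ≠ 1) (hxa : x * a * x⁻¹ = a ^ k) (he0 : 0 < e) (hx : x ^ e = 1)
    (hj : ∀ j, 0 < j → j < e → x ^ j * a ≠ a * x ^ j)
    (h0 : ∀ v : V, (a : V ≃ₗ[ZMod p] V) v = v → v = 0) :
    ∃ c, e * c = finrank K V ∧ Nat.card (fx (x : V ≃ₗ[ZMod p] V)) = Nat.card K ^ c ∧
      Nat.card (fx (x : V ≃ₗ[ZMod p] V)) ^ e = Nat.card V :=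
  frob H hr hrp ha hxa (order_of_conj hr ha ha1 hxa he0 hx hj) he0 hx h0

end ql

/-! ### From `QSP` to `QL`, elements without fixed vectors -/

section qsp

variable {p : ℕ} [Fact p.Prime] {K : Type w} [Field K] {V : Type u} [AddCommGroup V] [Module (ZMod p) V]
    [Module K V] {G L : Subgroup (V ≃ₗ[ZMod p] V)} {h : ℕ}

theorem toQL (H : Cfsg.Agent.H19.HT.QSP p K V G L h) : QL p K V G L h :=
  ⟨H.half, H.le, H.nrm, H.perf, H.simple, H.nonab, H.lin, H.endo, H.irr⟩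

/-- an element of prime order `r` of `G` with `r ∤ h` has no non-zero fixed vector -/
theorem fpf_of_not_dvd [Finite V] (hh : Half G h) {r : ℕ} [Fact r.Prime] (hr : ¬ r ∣ h) {g : V ≃ₗ[ZMod p] V} (hg : g ∈ G)
    (h1 : g ^ r = 1) (hne : g ≠ 1) {v : V} (hv : g v = v) : v = 0 := by
  by_contra hv0
  have h2 : orderOf (⟨g, hg⟩ : G) = r := by
    rw [← Subgroup.orderOf_coe]
    exact orderOf_eq_prime h1 hne
  exact hr (dvd_h hh h2 hv0 hv)

end qsp

end Cfsg.Agent.H192.Ht
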