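import Cfsg.Agent.H662.HT.Two
import Cfsg.Agent.H662.HT.Glue
import Cfsg.Agent.H298.HT.SymOfF
import Cfsg.Agent.H559.HT.ExistsF
import Cfsg.Agent.H583.HT.TwoPart
import Cfsg.Agent.H960.HT.Three

/-!
# The inputs of the soluble coprime case of S3577 (TEAM HT; helper192)
-/

set_option autoImplicit false

namespace Cfsg.Agent.H192.Ht

open Cfsg.Agent.H828.HT
open Cfsg.Agent.H662.HT
open Cfsg.Agent.H960.HT (Irr Homog NIrr Sys)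

universe u

/-- the inputs proved by TEAM HT -/
structure Leaves : Prop where
  full_false : ∀ {p : ℕ} [Fact p.Prime] {V : Type u} [AddCommGroup V] [Module (ZMod p) V] [Finite V]
    {G N : Subgroup (V ≃ₗ[ZMod p] V)}, N ≤ G → (∀ g ∈ G, ∀ x ∈ N, g * x * g⁻¹ ∈ N) →
    ¬ p ∣ Nat.card G → ∀ {h s a : ℕ}, Half G h → 2 ≤ h → Sym s a N V → Full s N → (3 ≤ s ∨ 2 ≤ a) → False
  two_three : ∀ {p : ℕ} [Fact p.Prime] {V : Type u} [AddCommGroup V] [Module (ZMod p) V] [Finite V]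
    {G N : Subgroup (V ≃ₗ[ZMod p] V)}, N ≤ G → (∀ g ∈ G, ∀ x ∈ N, g * x * g⁻¹ ∈ N) →
    ¬ p ∣ Nat.card G → ∀ {h a : ℕ}, Half G h → 2 ≤ h → Sym 2 a N V → Nat.card (Subgroup.center N) = 2 → 2 ≤ a →
    p = 3 ∧ a = 2
  exists_field : ∀ {p : ℕ} [Fact p.Prime] {V : Type u} [AddCommGroup V] [Module (ZMod p) V] [Finite V] [Nontrivial V]
    {G A : Subgroup (V ≃ₗ[ZMod p] V)}, Irr G → A ≤ G → (∀ g ∈ G, ∀ a ∈ A, g * a * g⁻¹ ∈ A) →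
    (∀ a ∈ A, ∀ b ∈ A, a * b = b * a) → Homog A →
    ∃ (K : Type u) (_ : Field K) (_ : Module K V) (χ : A →* Kˣ) (σ : G →* (K ≃+* K)), KS G A K χ σ
  semilinear_case : ∀ {p : ℕ} [Fact p.Prime] {V : Type u} [AddCommGroup V] [Module (ZMod p) V] [Finite V] [Nontrivial V]
    {G A : Subgroup (V ≃ₗ[ZMod p] V)}, A ≤ G → ¬ p ∣ Nat.card G →
    (∀ g ∈ G, (∀ a ∈ A, g * a = a * g) → g ∈ A) → (∀ a ∈ A, ∀ b ∈ A, a * b = b * a) →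
    ∀ {K : Type u} [Field K] [Module K V] {χ : A →* Kˣ} {σ : G →* (K ≃+* K)}, KS G A K χ σ →
    ∀ {h : ℕ}, Half G h → 2 ≤ h →
    ∃ S : Subgroup (V ≃ₗ[ZMod p] V), IsCyclic S ∧ Nat.card S = Nat.card V - 1 ∧
      ∀ g ∈ G, ∀ s ∈ S, g * s * g⁻¹ ∈ S
  e_two_size : ∀ {p : ℕ} [Fact p.Prime] {V : Type u} [AddCommGroup V] [Module (ZMod p) V] [Finite V] [Nontrivial V]
    {G A F : Subgroup (V ≃ₗ[ZMod p] V)} {K : Type u} [Field K] [Module K V] {χ : A →* Kˣ} {σ : G →* (K ≃+* K)},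
    ETwo G A F → KS G A K χ σ → 5 ≤ p → ¬ p ∣ Nat.card G → ∀ {h : ℕ}, Half G h → 2 ≤ h →
    (Nat.card V = p ^ 2 ∧ (p = 5 ∨ p = 7 ∨ p = 11 ∨ p = 13 ∨ p = 17)) ∨
    (Nat.card V = p ^ 4 ∧ Nat.card K = p ^ 2 ∧ (p = 5 ∨ p = 7 ∨ p = 11))
  e_two_thirteen : ∀ {p : ℕ} [Fact p.Prime] {V : Type u} [AddCommGroup V] [Module (ZMod p) V] [Finite V] [Nontrivial V]
    {G A F : Subgroup (V ≃ₗ[ZMod p] V)} {K : Type u} [Field K] [Module K V] {χ : A →* Kˣ} {σ : G →* (K ≃+* K)},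
    ETwo G A F → KS G A K χ σ → p = 13 → Nat.card V = 13 ^ 2 → ¬ p ∣ Nat.card G → ∀ {h : ℕ}, Half G h → 2 ≤ h → False
  e_two_five : ∀ {p : ℕ} [Fact p.Prime] {V : Type u} [AddCommGroup V] [Module (ZMod p) V] [Finite V] [Nontrivial V]
    {G A F : Subgroup (V ≃ₗ[ZMod p] V)} {K : Type u} [Field K] [Module K V] {χ : A →* Kˣ} {σ : G →* (K ≃+* K)},
    ETwo G A F → KS G A K χ σ → p = 5 → Nat.card V = 5 ^ 4 → Nat.card K = 5 ^ 2 → ¬ p ∣ Nat.card G →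
    ∀ {h : ℕ}, Half G h → 2 ≤ h → False
  e_two_seven : ∀ {p : ℕ} [Fact p.Prime] {V : Type u} [AddCommGroup V] [Module (ZMod p) V] [Finite V] [Nontrivial V]
    {G A F : Subgroup (V ≃ₗ[ZMod p] V)} {K : Type u} [Field K] [Module K V] {χ : A →* Kˣ} {σ : G →* (K ≃+* K)},
    ETwo G A F → KS G A K χ σ → p = 7 → Nat.card V = 7 ^ 4 → Nat.card K = 7 ^ 2 → ¬ p ∣ Nat.card G →
    ∀ {h : ℕ}, Half G h → 2 ≤ h → False
  e_two_eleven : ∀ {p : ℕ} [Fact p.Prime] {V : Type u} [AddCommGroup V] [Module (ZMod p) V] [Finite V] [Nontrivial V]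
    {G A F : Subgroup (V ≃ₗ[ZMod p] V)} {K : Type u} [Field K] [Module K V] {χ : A →* Kˣ} {σ : G →* (K ≃+* K)},
    ETwo G A F → KS G A K χ σ → p = 11 → Nat.card V = 11 ^ 4 → Nat.card K = 11 ^ 2 → ¬ p ∣ Nat.card G →
    ∀ {h : ℕ}, Half G h → 2 ≤ h → False
  p_three : ∀ {W : Type u} [AddCommGroup W] [Fact (Nat.Prime 3)] [Module (ZMod 3) W] [Finite W] [Nontrivial W]
    {G A E : Subgroup (W ≃ₗ[ZMod 3] W)}, A ≤ G → E ≤ G → ¬ 3 ∣ Nat.card G →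
    ∀ {h : ℕ}, Half G h → 2 ≤ h →
    (∀ g ∈ G, ∀ a ∈ A, g * a * g⁻¹ ∈ A) → (∀ g ∈ G, ∀ x ∈ E, g * x * g⁻¹ ∈ E) →
    IsCyclic A → (∀ a ∈ A, ∀ x ∈ E, a * x = x * a) →
    (∀ g ∈ G, (∀ x ∈ E, g * x = x * g) → (∀ a ∈ A, g * a = a * g) → g ∈ A) →
    Sym 2 2 E W → Nat.card (Subgroup.center E) = 2 → ¬ 4 ∣ Nat.card A → Nat.card W = 81

end Cfsg.Agent.H192.Ht
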