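import Cfsg.Agent.H192.Ht.Tools

/-!
# S3512: lifting from `T ≃* L / Z(L)` to `L`, centres, elementary abelian groups of order 9 (helper192)
-/

set_option autoImplicit false
set_option linter.unusedSectionVars false
set_option linter.style.haveILetI false

universe u v w

namespace Cfsg.Agent.H192.Ht

open Module Cfsg.Agent.H952.F4 Cfsg.Agent.H333.QS6.Rep
open Cfsg.Agent.H828.HT hiding ev
open Cfsg.Agent.H742.HT Cfsg.Agent.H333.QS6

section lft

variable {X : Type u} [Group X] {T : Type v} [Group T] (e : (X ⧸ Subgroup.center X) ≃* T)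

/-- the projection `X → X / Z(X) ≃ T` -/
def pr : X →* T := e.toMonoidHom.comp (QuotientGroup.mk' (Subgroup.center X))

theorem pr_surjective : Function.Surjective (pr e) := by
  intro t
  obtain ⟨x, hx⟩ := QuotientGroup.mk_surjective (e.symm t)
  refine ⟨x, ?_⟩
  change e (QuotientGroup.mk x) = t
  rw [hx, e.apply_symm_apply]

theorem pr_eq_one {x : X} : pr e x = 1 ↔ x ∈ Subgroup.center X := by
  change e (QuotientGroup.mk x) = 1 ↔ _
  rw [MulEquiv.map_eq_one_iff, QuotientGroup.eq_one_iff]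

theorem pr_lift [Finite X] {r : ℕ} (hr : r.Prime) (hz : ¬ r ∣ Nat.card (Subgroup.center X)) {t : T} (ht : t ^ r = 1) :
    ∃ x : X, x ^ r = 1 ∧ pr e x = t := by
  obtain ⟨x, hx, h1⟩ := Lift.exists_lift hr hz (s := e.symm t) (by rw [← map_pow, ht, map_one])
  refine ⟨x, hx, ?_⟩
  change e (QuotientGroup.mk x) = t
  rw [h1, e.apply_symm_apply]

theorem pr_rel [Finite X] {r : ℕ} (hr : r.Prime) (hz : ¬ r ∣ Nat.card (Subgroup.center X)) {z t : X} (hzr : z ^ r = 1)
    {a : ℕ} (h : pr e t * pr e z * (pr e t)⁻¹ = pr e z ^ a) : t * z * t⁻¹ = z ^ a := by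
  refine Lift.lift_rel hr hz hzr (e.injective ?_)
  rw [map_mul, map_mul, map_inv, map_pow]
  exact h

/-- the lift of a conjugation between elements of order `r` -/
theorem pr_conj [Finite X] {r : ℕ} (hr : r.Prime) (hz : ¬ r ∣ Nat.card (Subgroup.center X)) {z w t : X}
    (hzr : z ^ r = 1) (hwr : w ^ r = 1) (h : pr e t * pr e z * (pr e t)⁻¹ = pr e w) : t * z * t⁻¹ = w := by
  have h1 : w⁻¹ * (t * z * t⁻¹) ∈ Subgroup.center X := by
    rw [← pr_eq_one e, map_mul, map_inv, map_mul, map_mul, map_inv, h, inv_mul_cancel]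
  have h2 : (t * z * t⁻¹) ^ r = 1 := by rw [conj_pow, hzr, mul_one, mul_inv_cancel]
  have h3 : w * (w⁻¹ * (t * z * t⁻¹)) = t * z * t⁻¹ := by group
  have h4 : (w⁻¹ * (t * z * t⁻¹)) ^ r = 1 := by
    have h5 : Commute w (w⁻¹ * (t * z * t⁻¹)) := (Subgroup.mem_center_iff.1 h1 w)
    have h6 := h5.mul_pow r
    rw [h3, h2, hwr, one_mul] at h6
    exact h6.symm
  have h5 := Lift.eq_one_of_center hr hz h1 h4
  rw [h5, mul_one] at h3
  exact h3.symm

theorem pr_comm [Finite X] {r : ℕ} (hr : r.Prime) (hz : ¬ r ∣ Nat.card (Subgroup.center X)) {z w : X}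
    (hzr : z ^ r = 1) (h : pr e w * pr e z = pr e z * pr e w) : w * z = z * w := by
  have h1 := pr_conj e hr hz (z := z) (w := z) (t := w) hzr hzr (by rw [h]; group)
  calc w * z = w * z * w⁻¹ * w := by group
    _ = z * w := by rw [h1]

include e in
theorem not_dvd_center_pr [Finite X] {r : ℕ} [Fact r.Prime] (hX : commutator X = ⊤) (hs : ¬ r ^ 2 ∣ Nat.card T) :
    ¬ r ∣ Nat.card (Subgroup.center X) := by
  refine Lift.not_dvd_center hX ?_
  rwa [Nat.card_congr e.toEquiv]

end lft

/-- two commuting elements of order 3, independent -/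
theorem nine_dvd {S : Type u} [Group S] [Finite S] {a b : S} (hab : a * b = b * a) (ha : a ^ 3 = 1) (hb : b ^ 3 = 1)
    (ha1 : a ≠ 1) (hba : b ∉ Subgroup.zpowers a) : 9 ∣ Nat.card S := by
  have h3 : Fact (Nat.Prime 3) := ⟨Nat.prime_three⟩
  have hp : ∀ x : S, x ^ 3 = 1 → IsPGroup 3 (Subgroup.zpowers x) := by
    rintro x hx ⟨y, j, rfl⟩
    refine ⟨1, Subtype.ext ?_⟩
    change (x ^ j) ^ 3 ^ 1 = 1
    rw [pow_one, ← zpow_natCast, ← zpow_mul, mul_comm, zpow_mul, zpow_natCast, hx, one_zpow]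
  have hn : Subgroup.zpowers a ≤ Subgroup.normalizer ((Subgroup.zpowers b : Subgroup S) : Set S) := by
    rw [Subgroup.zpowers_le, Subgroup.mem_normalizer_iff]
    intro x
    rw [Subgroup.mem_zpowers_iff, Subgroup.mem_zpowers_iff]
    have hc : Commute a b := hab
    constructor
    · rintro ⟨k, rfl⟩
      exact ⟨k, by rw [(hc.zpow_right k).eq]; group⟩
    · rintro ⟨k, hk⟩
      refine ⟨k, ?_⟩
      have : x = a⁻¹ * b ^ k * a := by rw [hk]; group
      rw [this]
      rw [(hc.inv_left.zpow_right k).eq]; group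
  have h1 : IsPGroup 3 ↥(Subgroup.zpowers a ⊔ Subgroup.zpowers b) := (hp a ha).to_sup_of_normal_right' (hp b hb) hn
  obtain ⟨k, hk⟩ := IsPGroup.iff_card.1 h1
  have ha3 : Nat.card (Subgroup.zpowers a) = 3 := by
    rw [Nat.card_zpowers]
    exact orderOf_eq_prime ha ha1
  have hle : Subgroup.zpowers a ≤ Subgroup.zpowers a ⊔ Subgroup.zpowers b := le_sup_left
  have hk2 : 2 ≤ k := by
    by_contra hlt
    have h4 : 3 ∣ 3 ^ k := by rw [← hk, ← ha3]; exact Subgroup.card_dvd_of_le hle
    have h5 : k = 1 := by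
      rcases Nat.eq_zero_or_pos k with rfl | h
      · norm_num at h4
      · omega
    rw [h5, pow_one] at hk
    have h6 := Subgroup.eq_of_le_of_card_ge hle (by rw [hk, ha3])
    apply hba
    rw [h6]
    exact Subgroup.mem_sup_right (Subgroup.mem_zpowers b)
  have h7 : 3 ^ 2 ∣ Nat.card ↥(Subgroup.zpowers a ⊔ Subgroup.zpowers b) := by rw [hk]; exact pow_dvd_pow 3 hk2
  exact h7.trans (Subgroup.card_subgroup_dvd_card _)

/-- a group with two independent commuting elements of order 3 has a non-cyclic Sylow 3-subgroup -/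
theorem noncyclic_three {S : Type u} [Group S] [Finite S] {a b : S} (hab : a * b = b * a) (ha : a ^ 3 = 1)
    (hb : b ^ 3 = 1) (ha1 : a ≠ 1) (hba : b ∉ Subgroup.zpowers a) : ∃ Q : Sylow 3 S, ¬ IsCyclic Q := by
  have h3 : Fact (Nat.Prime 3) := ⟨Nat.prime_three⟩
  have hp : ∀ x : S, x ^ 3 = 1 → IsPGroup 3 (Subgroup.zpowers x) := by
    rintro x hx ⟨y, j, rfl⟩
    refine ⟨1, Subtype.ext ?_⟩
    change (x ^ j) ^ 3 ^ 1 = 1
    rw [pow_one, ← zpow_natCast, ← zpow_mul, mul_comm, zpow_mul, zpow_natCast, hx, one_zpow]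
  have hn : Subgroup.zpowers a ≤ Subgroup.normalizer ((Subgroup.zpowers b : Subgroup S) : Set S) := by
    rw [Subgroup.zpowers_le, Subgroup.mem_normalizer_iff]
    intro x
    rw [Subgroup.mem_zpowers_iff, Subgroup.mem_zpowers_iff]
    have hc : Commute a b := hab
    constructor
    · rintro ⟨k, rfl⟩
      exact ⟨k, by rw [(hc.zpow_right k).eq]; group⟩
    · rintro ⟨k, hk⟩
      refine ⟨k, ?_⟩
      have : x = a⁻¹ * b ^ k * a := by rw [hk]; group
      rw [this]
      rw [(hc.inv_left.zpow_right k).eq]; group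
  have h1 : IsPGroup 3 ↥(Subgroup.zpowers a ⊔ Subgroup.zpowers b) := (hp a ha).to_sup_of_normal_right' (hp b hb) hn
  obtain ⟨Q, hQ⟩ := h1.exists_le_sylow
  refine ⟨Q, fun hc => ?_⟩
  have haQ : a ∈ (Q : Subgroup S) := hQ (Subgroup.mem_sup_left (Subgroup.mem_zpowers a))
  have hbQ : b ∈ (Q : Subgroup S) := hQ (Subgroup.mem_sup_right (Subgroup.mem_zpowers b))
  classical
  have := Fintype.ofFinite ↥(Q : Subgroup S)
  have h4 := IsCyclic.card_pow_eq_one_le (α := ↥(Q : Subgroup S)) (n := 3) (by norm_num)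
  have oa : orderOf a = 3 := orderOf_eq_prime ha ha1
  have h5 : ({1, ⟨a, haQ⟩, ⟨a, haQ⟩ ^ 2, ⟨b, hbQ⟩} : Finset ↥(Q : Subgroup S)) ⊆ Finset.univ.filter fun x : ↥(Q : Subgroup S) => x ^ 3 = 1 := by
    intro x hx
    simp only [Finset.mem_insert, Finset.mem_singleton] at hx
    rw [Finset.mem_filter]
    refine ⟨Finset.mem_univ _, ?_⟩
    rcases hx with rfl | rfl | rfl | rfl
    · exact one_pow 3
    · exact Subtype.ext ha
    · apply Subtype.ext
      change (a ^ 2) ^ 3 = 1
      rw [← pow_mul, mul_comm, pow_mul, ha, one_pow]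
    · exact Subtype.ext hb
  have h6 : ({1, ⟨a, haQ⟩, ⟨a, haQ⟩ ^ 2, ⟨b, hbQ⟩} : Finset ↥(Q : Subgroup S)).card = 4 := by
    have n1 : a ^ 2 ≠ 1 := fun h => by
      have := orderOf_dvd_of_pow_eq_one h
      rw [oa] at this
      omega
    have n2 : a ≠ a ^ 2 := fun h => ha1 (by
      have : a * 1 = a * a := by rw [mul_one, ← pow_two]; exact h
      exact (mul_left_cancel this).symm)
    have n3 : b ≠ 1 := fun h => hba (by rw [h]; exact Subgroup.one_mem _)
    have n4 : b ≠ a := fun h => hba (by rw [h]; exact Subgroup.mem_zpowers a)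
    have n5 : b ≠ a ^ 2 := fun h => hba (by rw [h]; exact Subgroup.npow_mem_zpowers a 2)
    rw [Finset.card_insert_of_notMem, Finset.card_insert_of_notMem, Finset.card_insert_of_notMem,
      Finset.card_singleton]
    · intro h
      rw [Finset.mem_singleton] at h
      exact n5 (congrArg Subtype.val h).symm
    · intro h
      rw [Finset.mem_insert, Finset.mem_singleton] at h
      rcases h with h | h
      · exact n2 (congrArg Subtype.val h)
      · exact n4 (congrArg Subtype.val h).symm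
    · intro h
      rw [Finset.mem_insert, Finset.mem_insert, Finset.mem_singleton] at h
      rcases h with h | h | h
      · exact ha1 (congrArg Subtype.val h).symm
      · exact n1 (congrArg Subtype.val h).symm
      · exact n3 (congrArg Subtype.val h).symm
  have h7 := Finset.card_le_card h5
  rw [h6] at h7
  omega

section ql

variable {p : ℕ} [Fact p.Prime] {K : Type w} [Field K] {V : Type u} [AddCommGroup V] [Module (ZMod p) V] [Finite V]
    [Module K V] {G L : Subgroup (V ≃ₗ[ZMod p] V)} {h : ℕ}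

/-- central elements of `L` are scalars of order dividing `n` and `|K| - 1` -/
theorem center_pow (H : QL p K V G L h) {z : L} (hz : z ∈ Subgroup.center L) :
    z ^ finrank K V = 1 ∧ z ^ (Nat.card K - 1) = 1 := by
  have hfK := QN.finiteK H
  have hfd := QN.finiteDim H
  obtain ⟨c, hc⟩ := H.endo ((z : V ≃ₗ[ZMod p] V) : V →ₗ[ZMod p] V) (by
    intro l hl v
    have h1 := congrArg (fun x : L => (x : V ≃ₗ[ZMod p] V) v) (Subgroup.mem_center_iff.1 hz ⟨l, hl⟩)
    exact h1.symm)
  have hc' : ∀ v, (z : V ≃ₗ[ZMod p] V) v = c • v := hc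
  obtain ⟨v, hv⟩ := QN.exists_ne H
  have hc0 : c ≠ 0 := by
    intro h0
    have h1 := hc' v
    rw [h0, zero_smul] at h1
    exact hv ((z : V ≃ₗ[ZMod p] V).map_eq_zero_iff.1 h1)
  have hpow : ∀ (k : ℕ) (v : V), ((z ^ k : L) : V ≃ₗ[ZMod p] V) v = c ^ k • v := by
    intro k
    induction k with
    | zero => intro v; rw [pow_zero, pow_zero, one_smul]; rfl
    | succ k ih =>
      intro v
      rw [pow_succ]
      change ((z ^ k : L) : V ≃ₗ[ZMod p] V) ((z : V ≃ₗ[ZMod p] V) v) = _
      rw [hc', ih, smul_smul, ← pow_succ]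
  have hone : ∀ k : ℕ, c ^ k = 1 → z ^ k = 1 := by
    intro k hk
    apply Subtype.ext
    ext w
    rw [hpow, hk, one_smul]; rfl
  constructor
  · apply hone
    have h1 := QN.det_toK H z
    have h2 : ((QN.toK H z : V ≃ₗ[K] V) : V →ₗ[K] V) = c • LinearMap.id := by
      ext w
      exact hc' w
    have h3 : LinearMap.det ((QN.toK H z : V ≃ₗ[K] V) : V →ₗ[K] V) = 1 := by
      rw [← LinearEquiv.coe_det, h1]; rfl
    rw [h2, LinearMap.det_smul, LinearMap.det_id, mul_one] at h3
    exact h3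
  · apply hone
    have := Fintype.ofFinite K
    rw [Nat.card_eq_fintype_card]
    exact FiniteField.pow_card_sub_one_eq_one c hc0

theorem not_dvd_center_of (H : QL p K V G L h) {r : ℕ} (hr : r.Prime)
    (hn : ¬ r ∣ finrank K V ∨ ¬ r ∣ (Nat.card K - 1)) : ¬ r ∣ Nat.card (Subgroup.center L) := by
  intro hd
  have : Finite L := finite_L
  have hf : Fact r.Prime := ⟨hr⟩
  obtain ⟨⟨z, hzZ⟩, hz⟩ := exists_prime_orderOf_dvd_card' r hd
  rw [Subgroup.orderOf_mk] at hz
  have h1 := center_pow H hzZ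
  rcases hn with hn | hn
  · exact hn (by rw [← hz]; exact orderOf_dvd_of_pow_eq_one h1.1)
  · exact hn (by rw [← hz]; exact orderOf_dvd_of_pow_eq_one h1.2)

theorem fd_conj (hlin : ∀ l ∈ L, ∀ (c : K) (v : V), l (c • v) = c • l v) (g x : L) [Finite K] :
    fd hlin (g * x * g⁻¹) = fd hlin x := by
  have h1 := card_fx_eq_fd hlin x
  have h2 := card_fx_eq_fd hlin (g * x * g⁻¹)
  have h3 : Nat.card (fx ((g * x * g⁻¹ : L) : V ≃ₗ[ZMod p] V)) = Nat.card (fx (x : V ≃ₗ[ZMod p] V)) := by
    refine (Nat.card_congr (Equiv.ofBijective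
      (fun v : fx (x : V ≃ₗ[ZMod p] V) => (⟨(g : V ≃ₗ[ZMod p] V) v, by
        rw [mem_fx]
        change (g : V ≃ₗ[ZMod p] V) ((x : V ≃ₗ[ZMod p] V) (((g : V ≃ₗ[ZMod p] V)⁻¹ * (g : V ≃ₗ[ZMod p] V)) v)) =
          (g : V ≃ₗ[ZMod p] V) v
        rw [inv_mul_cancel]
        change (g : V ≃ₗ[ZMod p] V) ((x : V ≃ₗ[ZMod p] V) (v : V)) = (g : V ≃ₗ[ZMod p] V) v
        rw [mem_fx.1 v.2]⟩ : fx ((g * x * g⁻¹ : L) : V ≃ₗ[ZMod p] V))) ⟨?_, ?_⟩)).symm
    · intro v w hvw
      exact Subtype.ext ((g : V ≃ₗ[ZMod p] V).injective (congrArg Subtype.val hvw))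
    · rintro ⟨w, hw⟩
      rw [mem_fx] at hw
      refine ⟨⟨(g : V ≃ₗ[ZMod p] V)⁻¹ w, ?_⟩, Subtype.ext ?_⟩
      · rw [mem_fx]
        apply (g : V ≃ₗ[ZMod p] V).injective
        change ((g * x * g⁻¹ : L) : V ≃ₗ[ZMod p] V) w = ((g : V ≃ₗ[ZMod p] V) * (g : V ≃ₗ[ZMod p] V)⁻¹) w
        rw [hw, mul_inv_cancel]; rfl
      · change ((g : V ≃ₗ[ZMod p] V) * (g : V ≃ₗ[ZMod p] V)⁻¹) w = w
        rw [mul_inv_cancel]; rfl
  rw [h1, h2] at h3
  exact Nat.pow_right_injective (Finite.one_lt_card : 1 < Nat.card K) h3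

theorem mem_range_av {F : Type v} [Field F] {W : Type w} [AddCommGroup W] [Module F W] (h3 : (3 : F) ≠ 0)
    {T : Module.End F W} (hT : T * (T * T) = 1) {v : W} : v ∈ LinearMap.range (EigFr.av T) ↔ T v = v := by
  have hT' : ∀ v, T (T (T v)) = v := fun v => by
    have := congrArg (fun f : Module.End F W => f v) hT
    exact this
  constructor
  · rintro ⟨w, rfl⟩
    unfold EigFr.av
    rw [LinearMap.smul_apply, map_smul]
    congr 1
    change T (w + T w + T (T w)) = w + T w + T (T w)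
    rw [map_add, map_add, hT']
    abel
  · intro hv
    refine ⟨v, ?_⟩
    unfold EigFr.av
    rw [LinearMap.smul_apply]
    change (3 : F)⁻¹ • (v + T v + T (T v)) = v
    rw [hv, hv]
    have h1 : v + v + v = (3 : F) • v := by
      rw [show (3 : F) = 1 + 1 + 1 by norm_num, add_smul, add_smul, one_smul]
    rw [h1, smul_smul, inv_mul_cancel₀ h3, one_smul]

theorem finrank_range_av {F : Type v} [Field F] {W : Type w} [AddCommGroup W] [Module F W] (h3 : (3 : F) ≠ 0)
    {T : Module.End F W} (hT : T * (T * T) = 1) : finrank F (LinearMap.range (EigFr.av T)) = ev T 1 := by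
  have : LinearMap.range (EigFr.av T) = es T 1 := by
    ext v
    rw [mem_range_av h3 hT]
    change _ ↔ v ∈ Module.End.eigenspace T 1
    rw [Module.End.mem_eigenspace_iff, one_smul]
  rw [this]; rfl

/-- the formula for elementary abelian groups of order 9 -/
theorem nineL (H : QL p K V G L h) (hp3 : p ≠ 3) {z w : L} (hz : z ^ 3 = 1) (hw : w ^ 3 = 1) (hzw : z * w = w * z) :
    finrank K V + 3 * finrank K ↥(es (repL H.lin z) 1 ⊓ es (repL H.lin w) 1) =
      fd H.lin z + fd H.lin w + fd H.lin (z * w) + fd H.lin (z * (w * w)) := by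
  have hfd := QN.finiteDim H
  have h3 : (3 : K) ≠ 0 := by
    have := natCast_ne_zero_of (K := K) (QN.exists_ne H) Nat.prime_three (Ne.symm hp3)
    exact_mod_cast this
  have hT : repL H.lin z * (repL H.lin z * repL H.lin z) = 1 := by
    rw [← map_mul, ← map_mul, ← pow_three, hz, map_one]
  have hS : repL H.lin w * (repL H.lin w * repL H.lin w) = 1 := by
    rw [← map_mul, ← map_mul, ← pow_three, hw, map_one]
  have hST : repL H.lin w * repL H.lin z = repL H.lin z * repL H.lin w := by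
    rw [← map_mul, ← map_mul, hzw]
  have key := EigFr.finrank_nine h3 hST hT hS
  have hc : Commute z w := hzw
  have hTS : repL H.lin z * repL H.lin w * (repL H.lin z * repL H.lin w * (repL H.lin z * repL H.lin w)) = 1 := by
    rw [← map_mul, ← map_mul, ← map_mul, ← pow_three, hc.mul_pow, hz, hw, one_mul, map_one]
  have hTSS : repL H.lin z * (repL H.lin w * repL H.lin w) * (repL H.lin z * (repL H.lin w * repL H.lin w) *
      (repL H.lin z * (repL H.lin w * repL H.lin w))) = 1 := by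
    rw [← map_mul, ← map_mul, ← map_mul, ← map_mul, ← pow_three, (hc.mul_right hc).mul_pow, hz, ← pow_two, ← pow_mul, mul_comm, pow_mul, hw,
      one_pow, one_mul, map_one]
  rw [finrank_range_av h3 hT, finrank_range_av h3 hS, finrank_range_av h3 hTS, finrank_range_av h3 hTSS] at key
  have h4 : LinearMap.range (EigFr.av (repL H.lin z) * EigFr.av (repL H.lin w)) =
      es (repL H.lin z) 1 ⊓ es (repL H.lin w) 1 := by
    apply le_antisymm
    · rintro _ ⟨v, rfl⟩
      rw [Submodule.mem_inf]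
      constructor
      · change _ ∈ Module.End.eigenspace _ 1
        rw [Module.End.mem_eigenspace_iff, one_smul]
        exact (mem_range_av h3 hT).1 ⟨_, rfl⟩
      · change _ ∈ Module.End.eigenspace _ 1
        rw [Module.End.mem_eigenspace_iff, one_smul, EigFr.av_comm hST]
        exact (mem_range_av h3 hS).1 ⟨_, rfl⟩
    · intro v hv
      rw [Submodule.mem_inf] at hv
      obtain ⟨h1, h2⟩ := hv
      change _ ∈ Module.End.eigenspace _ 1 at h1
      change _ ∈ Module.End.eigenspace _ 1 at h2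
      rw [Module.End.mem_eigenspace_iff, one_smul] at h1 h2
      obtain ⟨x, hx⟩ := (mem_range_av h3 hT).2 h1
      refine ⟨v, ?_⟩
      have e1 : EigFr.av (repL H.lin w) v = v := by
        obtain ⟨y, hy⟩ := (mem_range_av h3 hS).2 h2
        rw [← hy]
        exact congrArg (fun f : Module.End K V => f y) (EigFr.av_mul_self h3 hS)
      have e2 : EigFr.av (repL H.lin z) v = v := by
        rw [← hx]
        exact congrArg (fun f : Module.End K V => f x) (EigFr.av_mul_self h3 hT)
      change EigFr.av (repL H.lin z) (EigFr.av (repL H.lin w) v) = v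
      rw [e1, e2]
  rw [h4] at key
  rw [← map_mul, ← map_mul, ← map_mul] at key
  exact key

end ql

end Cfsg.Agent.H192.Ht
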