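import Cfsg.Agent.H192.Ht.Free
import Cfsg.Agent.PermutationGroups.ZassReduction

/-!
# S3512: non-cyclic Sylow subgroups (helper192)

* `sylow_of_not_dvd`: if `r ∤ h`, the Sylow `r`-subgroups of `L` are cyclic or (`r = 2`) generalized quaternion;
* `dvd_h_of_noncyclic`: if `L / Z(L)` has a non-cyclic Sylow `r`-subgroup, `r ≠ 2`, then `r ∣ h`.
-/

set_option autoImplicit false
set_option linter.unusedSectionVars false
set_option linter.style.haveILetI false

universe u v w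

namespace Cfsg.Agent.H192.Ht

open Cfsg.Agent.H828.HT
open Cfsg.Agent.H742.HT

variable {p : ℕ} [Fact p.Prime] {K : Type w} [Field K] {V : Type u} [AddCommGroup V] [Module (ZMod p) V] [Finite V]
    {G L : Subgroup (V ≃ₗ[ZMod p] V)} {h : ℕ}

/-- the action on `V`, written multiplicatively -/
def actV (L : Subgroup (V ≃ₗ[ZMod p] V)) : L →* MulAut (Multiplicative V) where
  toFun l := AddEquiv.toMultiplicative (l : V ≃ₗ[ZMod p] V).toAddEquiv
  map_one' := by ext v; rfl
  map_mul' a b := by ext v; rfl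

theorem actV_apply (l : L) (v : V) : actV L l (Multiplicative.ofAdd v) = Multiplicative.ofAdd ((l : V ≃ₗ[ZMod p] V) v) :=
  rfl

/-- if `r ∤ h`, non-trivial `r`-elements of `G` have no non-zero fixed vectors -/
theorem fpf_of_relem (hh : Half G h) {r : ℕ} [hr : Fact r.Prime] (hrh : ¬ r ∣ h) {g : V ≃ₗ[ZMod p] V} (hg : g ∈ G)
    {k : ℕ} (h1 : g ^ r ^ k = 1) (hne : g ≠ 1) {v : V} (hv : g v = v) : v = 0 := by
  have hpow : ∀ n : ℕ, (g ^ n) v = v := by
    intro n
    induction n with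
    | zero => rfl
    | succ n ih =>
      rw [pow_succ]
      change (g ^ n) (g v) = v
      rw [hv, ih]
  have hex : ∃ j, g ^ r ^ j = 1 := ⟨k, h1⟩
  classical
  obtain ⟨j, hj, hmin⟩ : ∃ j, g ^ r ^ j = 1 ∧ ∀ i < j, g ^ r ^ i ≠ 1 :=
    ⟨Nat.find hex, Nat.find_spec hex, fun i hi => Nat.find_min hex hi⟩
  rcases Nat.eq_zero_or_pos j with rfl | hj0
  · rw [pow_zero, pow_one] at hj
    exact absurd hj hne
  · obtain ⟨i, rfl⟩ : ∃ i, j = i + 1 := ⟨j - 1, by omega⟩
    refine fpf_of_not_dvd hh hrh (G.pow_mem hg (r ^ i)) ?_ (hmin i (by omega)) (hpow _)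
    rw [← pow_mul, ← pow_succ, hj]

/-- **Sylow subgroups for primes not dividing `h`** -/
theorem sylow_of_not_dvd (hh : Half G h) (hLG : L ≤ G) (hV : ∃ v : V, v ≠ 0) {r : ℕ} [hr : Fact r.Prime]
    (hrh : ¬ r ∣ h) (P : Sylow r L) :
    IsCyclic P ∨ (r = 2 ∧ ∃ n : ℕ, 1 ≤ n ∧ Nonempty (P ≃* QuaternionGroup (2 ^ n))) := by
  obtain ⟨v, hv⟩ := hV
  have : Nontrivial V := ⟨⟨v, 0, hv⟩⟩
  have : Nontrivial (Multiplicative V) := inferInstanceAs (Nontrivial V)
  -- the group `P` acting on `V`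
  let φ : P →* MulAut (Multiplicative V) := (actV L).comp (P : Subgroup L).subtype
  have hφ : ∀ g : P, g ≠ 1 → ∀ v : Multiplicative V, φ g v = v → v = 1 := by
    intro g hg v hv
    obtain ⟨k, hk⟩ := P.isPGroup' g
    have h1 : (((g : L) : V ≃ₗ[ZMod p] V)) ^ r ^ k = 1 := by
      have h2 := congrArg (fun x : P => ((x : L) : V ≃ₗ[ZMod p] V)) hk
      simpa using h2
    have h2 : ((g : L) : V ≃ₗ[ZMod p] V) ≠ 1 := by
      intro h3
      apply hg
      apply Subtype.ext
      apply Subtype.ext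
      exact h3
    have h3 := fpf_of_relem hh hrh (hLG (g : L).2) h1 h2 (v := Multiplicative.toAdd v) (congrArg Multiplicative.toAdd hv)
    exact congrArg Multiplicative.ofAdd h3
  obtain ⟨S, hS⟩ : ∃ S : Sylow r P, (S : Subgroup P) = ⊤ := by
    have h1 : IsPGroup r (⊤ : Subgroup P) := P.isPGroup'.to_subgroup ⊤
    obtain ⟨S, hS⟩ := h1.exists_le_sylow
    exact ⟨S, top_le_iff.1 hS⟩
  have e : S ≃* P := (MulEquiv.subgroupCongr hS).trans Subgroup.topEquiv
  rcases Cfsg.Agent.PermutationGroups.ZassReduction.sylow_cyclic_or_quaternion φ hφ r S with h1 | ⟨h1, n, hn, ⟨e'⟩⟩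
  · exact Or.inl (isCyclic_of_surjective e e.surjective)
  · exact Or.inr ⟨h1, n, hn, ⟨e.symm.trans e'⟩⟩

/-- **a non-cyclic Sylow `r`-subgroup of `L / Z(L)`, `r` odd, forces `r ∣ h`** -/
theorem dvd_h_of_noncyclic (hh : Half G h) (hLG : L ≤ G) (hV : ∃ v : V, v ≠ 0) {r : ℕ} [hr : Fact r.Prime] (hr2 : r ≠ 2)
    {T : Type v} [Group T] [Finite T] (f : L →* T) (hf : Function.Surjective f)
    (hT : ∃ Q : Sylow r T, ¬ IsCyclic Q) : r ∣ h := by
  by_contra hrh
  obtain ⟨Q, hQ⟩ := hT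
  apply hQ
  obtain ⟨P⟩ : Nonempty (Sylow r L) := inferInstance
  obtain ⟨g, hg⟩ := MulAction.exists_smul_eq T (P.mapSurjective hf) Q
  have hc : IsCyclic P := by
    rcases sylow_of_not_dvd hh hLG hV hrh P with h1 | ⟨h1, -⟩
    · exact h1
    · exact absurd h1 hr2
  have h1 : IsCyclic (P.mapSurjective hf) := by
    have h2 : ((P.mapSurjective hf : Sylow r T) : Subgroup T) = (P : Subgroup L).map f := rfl
    have h3 : IsCyclic ((P : Subgroup L).map f) := by
      refine isCyclic_of_surjective (f.subgroupMap (P : Subgroup L)) (f.subgroupMap_surjective _)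
    exact h3
  rw [← hg]
  exact isCyclic_of_surjective (Sylow.equivSMul (P.mapSurjective hf) g) (Sylow.equivSMul (P.mapSurjective hf) g).surjective

end Cfsg.Agent.H192.Ht
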