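import Cfsg.Agent.H192.Ht.RTwo
import Cfsg.Agent.H333.QS6.Lift

/-!
# S3512: small tools for the survivor rows (helper192)
-/

set_option autoImplicit false
set_option linter.unusedSectionVars false
set_option linter.style.haveILetI false

universe u v w

namespace Cfsg.Agent.H192.Ht

open Module Cfsg.Agent.H952.F4 Cfsg.Agent.H333.QS6.Rep
open Cfsg.Agent.H828.HT hiding ev
open Cfsg.Agent.H742.HT Cfsg.Agent.H333.QS6

section gen

variable {K : Type u} {V : Type v} [Field K] [AddCommGroup V] [Module K V] [FiniteDimensional K V]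
  {Γ : Type w} [Group Γ]

/-- orbits of eigenvalues, any field -/
theorem orb (ρ : Representation K Γ V) {r : ℕ} (hr : r.Prime) (hrK : (r : K) ≠ 0) {z y : Γ} {a e : ℕ}
    (hz : z ^ r = 1) (hyz : y * z * y⁻¹ = z ^ a) (he : orderOf (a : ZMod r) = e) (he0 : 0 < e) :
    ∃ c, finrank K V = ev (ρ z) 1 + e * c := by
  obtain ⟨c, hc, -⟩ := Eig.orbits (bar ρ) hr (by
    rw [← map_natCast (algebraMap K (AlgebraicClosure K))]
    exact fun h => hrK ((algebraMap K (AlgebraicClosure K)).injective (by rw [h, map_zero]))) hz hyz he he0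
  rw [ev_bar_one, finrank_fin_fun] at hc
  exact ⟨c, hc⟩

end gen

variable {p : ℕ} [Fact p.Prime] {K : Type w} [Field K] {V : Type u} [AddCommGroup V] [Module (ZMod p) V] [Finite V]
    [Module K V] {G L : Subgroup (V ≃ₗ[ZMod p] V)} {h : ℕ}

theorem finite_L : Finite L := by
  have : Finite (V ≃ₗ[ZMod p] V) := Finite.of_injective (fun f : V ≃ₗ[ZMod p] V => (f : V → V)) DFunLike.coe_injective
  infer_instance

/-- dimension of the fixed space of an element of `L` -/
noncomputable def fd (hlin : ∀ l ∈ L, ∀ (c : K) (v : V), l (c • v) = c • l v) (l : L) : ℕ := ev (repL hlin l) 1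

theorem card_fx_eq_fd (hlin : ∀ l ∈ L, ∀ (c : K) (v : V), l (c • v) = c • l v) (l : L) :
    Nat.card (fx (l : V ≃ₗ[ZMod p] V)) = Nat.card K ^ fd hlin l := (ev_eq_finrank hlin l).symm

/-- orbits of eigenvalues for elements of `L` -/
theorem orbL (H : QL p K V G L h) {r : ℕ} (hr : r.Prime) (hrp : r ≠ p) {z y : L} {a e : ℕ} (hz : z ^ r = 1)
    (hyz : y * z * y⁻¹ = z ^ a) (he : orderOf (a : ZMod r) = e) (he0 : 0 < e) :
    ∃ c, finrank K V = fd H.lin z + e * c := by
  have := QN.finiteDim H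
  exact orb (repL H.lin) hr (natCast_ne_zero_of (QN.exists_ne H) hr hrp) hz hyz he he0

/-- a non-trivial element has a proper fixed space -/
theorem fd_lt (H : QL p K V G L h) {z : L} (hz : z ≠ 1) : fd H.lin z < finrank K V := by
  have hK := QN.finiteK H
  have h1 := card_fx_eq_fd H.lin z
  have hK1 : 1 < Nat.card K := Finite.one_lt_card
  have h2 : Nat.card (fx (z : V ≃ₗ[ZMod p] V)) ≤ Nat.card V := Finite.card_subtype_le _
  rw [h1, QN.card_V H] at h2
  have h3 := (Nat.pow_le_pow_iff_right hK1).1 h2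
  refine lt_of_le_of_ne h3 fun h4 => hz ?_
  rw [h4, ← QN.card_V H] at h1
  apply Subtype.ext
  ext v
  have h5 : (fx (z : V ≃ₗ[ZMod p] V)) = ⊤ := by
    apply SetLike.coe_injective
    rw [Submodule.top_coe]
    refine Set.eq_of_subset_of_ncard_le (Set.subset_univ _) ?_ Set.finite_univ
    rw [Set.ncard_univ, ← Nat.card_coe_set_eq]
    exact h1.ge
  have h6 : v ∈ fx (z : V ≃ₗ[ZMod p] V) := by rw [h5]; trivial
  exact mem_fx.1 h6

theorem fd_eq_zero (H : QL p K V G L h) {z : L} (hz : ∀ v : V, (z : V ≃ₗ[ZMod p] V) v = v → v = 0) :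
    fd H.lin z = 0 := by
  have hK := QN.finiteK H
  obtain ⟨v, hv⟩ := QN.exists_ne H
  have : Nontrivial V := ⟨⟨v, 0, hv⟩⟩
  exact (ev_eq_zero_iff H.lin z).2 hz

/-- the degree is at least `e` -/
theorem le_finrank (H : QL p K V G L h) {r : ℕ} (hr : r.Prime) (hrp : r ≠ p) {z y : L} {a e : ℕ} (hz : z ^ r = 1)
    (hz1 : z ≠ 1) (hyz : y * z * y⁻¹ = z ^ a) (he : orderOf (a : ZMod r) = e) (he0 : 0 < e) : e ≤ finrank K V := by
  obtain ⟨c, hc⟩ := orbL H hr hrp hz hyz he he0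
  have h1 := fd_lt H hz1
  rcases Nat.eq_zero_or_pos c with rfl | hc0
  · omega
  · have : e * 1 ≤ e * c := Nat.mul_le_mul_left e hc0
    omega

/-- if `z` is fixed-point-free the degree is divisible by `e` -/
theorem dvd_finrank (H : QL p K V G L h) {r : ℕ} (hr : r.Prime) (hrp : r ≠ p) {z y : L} {a e : ℕ} (hz : z ^ r = 1)
    (h0 : ∀ v : V, (z : V ≃ₗ[ZMod p] V) v = v → v = 0) (hyz : y * z * y⁻¹ = z ^ a) (he : orderOf (a : ZMod r) = e)
    (he0 : 0 < e) : e ∣ finrank K V := by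
  obtain ⟨c, hc⟩ := orbL H hr hrp hz hyz he he0
  rw [fd_eq_zero H h0, zero_add] at hc
  exact ⟨c, hc⟩

/-- central elements with non-zero fixed vectors are trivial -/
theorem central_fixed (H : QL p K V G L h) {z : L} (hz : z ∈ Subgroup.center L) {v : V} (hv : v ≠ 0)
    (hzv : (z : V ≃ₗ[ZMod p] V) v = v) : z = 1 := by
  have hc := Subgroup.mem_center_iff.1 hz
  rcases H.irr (fx (z : V ≃ₗ[ZMod p] V)) (by
    intro g hg w hw
    rw [mem_fx] at hw ⊢
    have h1 : ((z * ⟨g, hg⟩ : L) : V ≃ₗ[ZMod p] V) w = ((⟨g, hg⟩ * z : L) : V ≃ₗ[ZMod p] V) w := by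
      rw [hc ⟨g, hg⟩]
    change (z : V ≃ₗ[ZMod p] V) (g w) = g ((z : V ≃ₗ[ZMod p] V) w) at h1
    rw [h1, hw]) with h | h
  · exact absurd ((Submodule.mem_bot _).1 (h ▸ mem_fx.2 hzv)) hv
  · apply Subtype.ext
    ext w
    have : w ∈ fx (z : V ≃ₗ[ZMod p] V) := by rw [h]; trivial
    exact mem_fx.1 this

/-- an element of `L` fixing `v ≠ 0` whose `r`-th power is central: `r ∤ h` implies it is `1` -/
theorem eq_one_of_fix (H : QL p K V G L h) {r : ℕ} [Fact r.Prime] (hrh : ¬ r ∣ h) {x : L} (hx : x ^ r ∈ Subgroup.center L)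
    {v : V} (hv : v ≠ 0) (hxv : (x : V ≃ₗ[ZMod p] V) v = v) : x = 1 := by
  have hpow : ∀ n : ℕ, ((x ^ n : L) : V ≃ₗ[ZMod p] V) v = v := by
    intro n
    induction n with
    | zero => rfl
    | succ n ih =>
      rw [pow_succ]
      change ((x ^ n : L) : V ≃ₗ[ZMod p] V) ((x : V ≃ₗ[ZMod p] V) v) = v
      rw [hxv, ih]
  have h1 := central_fixed H hx hv (hpow r)
  by_contra hne
  refine hv (fpf_of_not_dvd H.half hrh (H.le x.2) ?_ (fun h2 => hne (Subtype.ext h2)) hxv)
  exact congrArg Subtype.val h1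

end Cfsg.Agent.H192.Ht
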